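import Groth.Agent.GeomField.Fibre
import Mathlib.FieldTheory.IntermediateField.Adjoin.Algebra

/-!
# Descending open sets along algebraic field extensions, and the Galois action on fibres
-/

open CategoryTheory CategoryTheory.Limits AlgebraicGeometry TensorProduct

set_option backward.isDefEq.respectTransparency false
set_option backward.isDefEq.respectTransparency.types false

namespace Groth.Agent.GeomField

universe u

variable {k : Type u} [Field k] {X : Scheme.{u}} [X.Over (Spec (CommRingCat.of k))]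

namespace Chart

variable (c : Chart k X) (K : Type u) [Field K] [Algebra k K]

theorem bcEmb_snd : c.bcEmb K ≫ Curv2.bcSnd k X K =
    Spec.map (CommRingCat.ofHom
      (Algebra.TensorProduct.includeRight : K →ₐ[k] c.R ⊗[k] K).toRingHom) := by
  rw [bcEmb, Category.assoc, Category.assoc, Category.assoc,
    pullbackRightPullbackFstIso_inv_snd_snd, pullback.congrHom_inv, pullback.lift_snd, Category.comp_id,
    pullbackSpecIso_inv_snd]
  rfl

theorem bcEmb_bcMap (L : Type u) [Field L] [Algebra k L] [Algebra L K] [IsScalarTower k L K] :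
    c.bcEmb K ≫ FBaseLib.bcMap (X ↘ Spec (CommRingCat.of k)) L K =
      Spec.map (CommRingCat.ofHom (Algebra.TensorProduct.map (AlgHom.id k c.R)
        (IsScalarTower.toAlgHom k L K)).toRingHom) ≫ c.bcEmb L := by
  let f := X ↘ Spec (CommRingCat.of k)
  have e1 : FBaseLib.bcMap f L K ≫ Curv2.bcFst k X L = Curv2.bcFst k X K := FBaseLib.bcMap_fst f L K
  have e2 : FBaseLib.bcMap f L K ≫ Curv2.bcSnd k X L =
      Curv2.bcSnd k X K ≫ Spec.map (CommRingCat.ofHom (algebraMap L K)) := FBaseLib.bcMap_snd f L K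
  apply pullback.hom_ext
  · refine (Category.assoc _ _ _).trans (.trans ?_ (Category.assoc _ _ _).symm)
    refine (congrArg (c.bcEmb K ≫ ·) e1).trans ((c.bcEmb_fst K).trans ?_)
    refine .trans ?_ (congrArg (Spec.map _ ≫ ·) (c.bcEmb_fst L)).symm
    rw [← Spec.map_comp_assoc]
    congr 2
    ext r
    show r ⊗ₜ[k] (1 : K) =
      Algebra.TensorProduct.map (AlgHom.id k c.R) (IsScalarTower.toAlgHom k L K) (r ⊗ₜ[k] 1)
    rw [Algebra.TensorProduct.map_tmul, map_one]
    rfl
  · refine (Category.assoc _ _ _).trans (.trans ?_ (Category.assoc _ _ _).symm)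
    refine (congrArg (c.bcEmb K ≫ ·) e2).trans ((Category.assoc _ _ _).symm.trans ?_)
    refine (congrArg (· ≫ Spec.map _) (c.bcEmb_snd K)).trans ?_
    refine .trans ?_ (congrArg (Spec.map _ ≫ ·) (c.bcEmb_snd L)).symm
    rw [← Spec.map_comp, ← Spec.map_comp]
    congr 1

end Chart

/-- An element of `R ⊗ K` comes from a finite subextension. -/
theorem exists_finite_lift {R K : Type u} [CommRing R] [Algebra k R] [Field K] [Algebra k K]
    [Algebra.IsAlgebraic k K] (z : R ⊗[k] K) :
    ∃ F : IntermediateField k K, FiniteDimensional k F ∧ ∀ F' : IntermediateField k K, F ≤ F' →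
      ∃ y : R ⊗[k] F', Algebra.TensorProduct.map (AlgHom.id k R) F'.val y = z := by
  induction z using TensorProduct.induction_on with
  | zero => exact ⟨⊥, inferInstance, fun F' _ => ⟨0, map_zero _⟩⟩
  | tmul r a =>
    exact ⟨IntermediateField.adjoin k {a},
      IntermediateField.adjoin.finiteDimensional (Algebra.IsIntegral.isIntegral a), fun F' hF' =>
        ⟨r ⊗ₜ[k] ⟨a, hF' (IntermediateField.mem_adjoin_simple_self k a)⟩, by simp⟩⟩
  | add z w hz hw =>
    obtain ⟨F, hF, hz⟩ := hz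
    obtain ⟨G, hG, hw⟩ := hw
    refine ⟨F ⊔ G, inferInstance, fun F' hF' => ?_⟩
    obtain ⟨y, rfl⟩ := hz F' (le_sup_left.trans hF')
    obtain ⟨y', rfl⟩ := hw F' (le_sup_right.trans hF')
    exact ⟨y + y', map_add _ _ _⟩

/-- Open sets of `X_K`, for `K` algebraic, are locally pulled back from finite levels. -/
theorem exists_open_descend {K : Type u} [Field K] [Algebra k K] [Algebra.IsAlgebraic k K]
    {V : Set (Curv2.bc k X K)} (hV : IsOpen V) {v : Curv2.bc k X K} (hv : v ∈ V) :
    ∃ F : IntermediateField k K, FiniteDimensional k F ∧ ∀ F' : IntermediateField k K, F ≤ F' →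
      ∃ V' : Set (Curv2.bc k X F'), IsOpen V' ∧
        v ∈ FBaseLib.bcMap (X ↘ Spec (CommRingCat.of k)) F' K ⁻¹' V' ∧
        FBaseLib.bcMap (X ↘ Spec (CommRingCat.of k)) F' K ⁻¹' V' ⊆ V := by
  obtain ⟨c, P, hP⟩ := exists_chart (k := k) (Curv2.bcFst k X K v)
  obtain ⟨Q, rfl⟩ := c.exists_bcEmb_eq K P v hP.symm
  obtain ⟨_, ⟨g, rfl⟩, hQg, hgV⟩ := PrimeSpectrum.isTopologicalBasis_basic_opens.exists_subset_of_mem_open
    (u := c.bcEmb K ⁻¹' V) hv (hV.preimage (c.bcEmb K).continuous)
  obtain ⟨F, hF, hlift⟩ := exists_finite_lift g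
  refine ⟨F, hF, fun F' hF' => ?_⟩
  obtain ⟨y, hy⟩ := hlift F' hF'
  let ψ := (Algebra.TensorProduct.map (AlgHom.id k c.R) (IsScalarTower.toAlgHom k F' K)).toRingHom
  have hcomm : ∀ Q' : Spec (CommRingCat.of (c.R ⊗[k] K)),
      FBaseLib.bcMap (X ↘ Spec (CommRingCat.of k)) F' K (c.bcEmb K Q') =
        c.bcEmb F' (PrimeSpectrum.comap ψ Q') := fun Q' => by
    have h := congr($(c.bcEmb_bcMap K F').base Q')
    exact h
  have hψ : PrimeSpectrum.comap ψ ⁻¹' (PrimeSpectrum.basicOpen y : Set (PrimeSpectrum (c.R ⊗[k] F'))) =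
      PrimeSpectrum.basicOpen g := by
    rw [← hy]; rfl
  refine ⟨c.bcEmb F' '' (PrimeSpectrum.basicOpen y : Set (PrimeSpectrum (c.R ⊗[k] F'))),
    (c.bcEmb F').isOpenEmbedding.isOpenMap _ (PrimeSpectrum.basicOpen y).2,
    ⟨PrimeSpectrum.comap ψ Q, hψ.ge hQg, (hcomm Q).symm⟩, ?_⟩
  rintro w ⟨q, hq, hqw⟩
  have hfst : Curv2.bcFst k X K w ∈ Set.range c.emb := by
    have h := congr($(FBaseLib.bcMap_fst (X ↘ Spec (CommRingCat.of k)) F' K).base w)
    refine ⟨PrimeSpectrum.comap (algebraMap c.R (c.R ⊗[k] F')) q, ?_⟩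
    rw [← c.bcFst_bcEmb, hqw]
    exact h
  obtain ⟨P', hP'⟩ := hfst
  obtain ⟨Q', rfl⟩ := c.exists_bcEmb_eq K P' w hP'.symm
  refine hgV (hψ.le ?_)
  rw [hcomm] at hqw
  rw [Set.mem_preimage, ← (c.bcEmb F').isOpenEmbedding.injective hqw]
  exact hq

/-- Two points of `X_K` over the same point are conjugate, for `K/k` normal. -/
theorem exists_galAct_eq {K : Type u} [Field K] [Algebra k K] [Normal k K]
    (y y' : Curv2.bc k X K) (h : Curv2.bcFst k X K y = Curv2.bcFst k X K y') :
    ∃ σ : K ≃ₐ[k] K, Curv2.galAct k X K σ y = y' := by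
  let f := X ↘ Spec (CommRingCat.of k)
  obtain ⟨z₀, hz1, hz2⟩ := Scheme.Pullback.exists_preimage_pullback
    (f := Curv2.bcFst k X K) (g := Curv2.bcFst k X K) y y' h
  let P := pullback (Curv2.bcFst k X K) (Curv2.bcFst k X K)
  let ζ := P.fromSpecResidueField z₀
  obtain ⟨a, ha⟩ := Spec.map_surjective (ζ ≫ pullback.fst _ _ ≫ Curv2.bcSnd k X K)
  obtain ⟨b, hb⟩ := Spec.map_surjective (ζ ≫ pullback.snd _ _ ≫ Curv2.bcSnd k X K)
  let M : Type u := P.residueField z₀
  letI : Algebra K M := a.hom.toAlgebra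
  letI : Algebra k M := (a.hom.comp (algebraMap k K)).toAlgebra
  haveI : IsScalarTower k K M := IsScalarTower.of_algebraMap_eq fun _ => rfl
  have hab : CommRingCat.ofHom (algebraMap k K) ≫ b = CommRingCat.ofHom (algebraMap k K) ≫ a := by
    apply Spec.map_injective
    rw [Spec.map_comp, Spec.map_comp, ha, hb]
    simp only [Category.assoc, ← pullback.condition]
    rw [← pullback.condition_assoc]
  let bA : K →ₐ[k] M := { toRingHom := b.hom, commutes' := fun r => congr($(hab).hom r) }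
  let σ : K ≃ₐ[k] K := Normal.algHomEquivAut k M K bA
  have hσ : ∀ r, a.hom (σ r) = b.hom r := fun r => by
    have := (Normal.algHomEquivAut k M K).symm_apply_apply bA
    exact congr($this r)
  refine ⟨σ, ?_⟩
  have hcomp : (ζ ≫ pullback.fst _ _) ≫ Curv2.galAct k X K σ = ζ ≫ pullback.snd _ _ := by
    apply pullback.hom_ext
    · rw [Category.assoc, Curv2.galAct, pullback.lift_fst, Category.comp_id]
      simp only [Category.assoc, pullback.condition]
    · rw [Category.assoc, Curv2.galAct, pullback.lift_snd]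
      have h1 : ζ ≫ pullback.fst (Curv2.bcFst k X K) (Curv2.bcFst k X K) ≫ Curv2.bcSnd k X K = Spec.map a := ha.symm
      have h2 : ζ ≫ pullback.snd (Curv2.bcFst k X K) (Curv2.bcFst k X K) ≫ Curv2.bcSnd k X K = Spec.map b := hb.symm
      simp only [Category.assoc]
      rw [reassoc_of% h1, h2, ← Spec.map_comp]
      congr 1
      ext r
      exact hσ r
  rw [← hz1, ← hz2]
  have h3 := congr($(hcomp).base (IsLocalRing.closedPoint M))
  simp only [Scheme.Hom.comp_base, TopCat.hom_comp, ContinuousMap.comp_apply] at h3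
  erw [Scheme.fromSpecResidueField_apply] at h3
  exact h3

theorem bcFst_galAct {K : Type u} [Field K] [Algebra k K] (σ : K ≃ₐ[k] K) (y : Curv2.bc k X K) :
    Curv2.bcFst k X K (Curv2.galAct k X K σ y) = Curv2.bcFst k X K y := by
  rw [← Scheme.Hom.comp_apply]
  congr 2
  rw [Curv2.galAct, pullback.lift_fst, Category.comp_id]

end Groth.Agent.GeomField
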