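import Groth.Agent.GeomField.Field
import Groth.Agent.GeomField.Descend
import Mathlib.FieldTheory.IsSepClosed

/-!
# Geometric irreducibility
-/

open CategoryTheory CategoryTheory.Limits AlgebraicGeometry TensorProduct

set_option backward.isDefEq.respectTransparency false
set_option backward.isDefEq.respectTransparency.types false

namespace Groth.Agent.GeomField

universe u

attribute [local instance] Curv2.resAlgebra

variable {k : Type u} [Field k] {X : Scheme.{u}} [X.Over (Spec (CommRingCat.of k))]

theorem geometricallyIrreducible_of_separableClosure (h : IrreducibleSpace (Curv2.bc k X (SeparableClosure k))) :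
    GeometricallyIrreducible (X ↘ Spec (CommRingCat.of k)) := by
  refine geometricallyIrreducible_of_bc (SeparableClosure k) ?_
  let : (Curv2.bc k X (SeparableClosure k)).Over (Spec (CommRingCat.of (SeparableClosure k))) :=
    ⟨Curv2.bcSnd k X (SeparableClosure k)⟩
  exact geometricallyIrreducible_of_isSepClosed (k := SeparableClosure k) (X := Curv2.bc k X (SeparableClosure k))

theorem irreducibleSpace_bc_of_finiteSeparable {K : Type u} [Field K] [Algebra k K] [Algebra.IsAlgebraic k K]
    [Algebra.IsSeparable k K]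
    (h : ∀ (k' : Type u) [Field k'] [Algebra k k'] [FiniteDimensional k k'] [Algebra.IsSeparable k k'],
      IrreducibleSpace (Curv2.bc k X k')) : IrreducibleSpace (Curv2.bc k X K) := by
  have hne : Nonempty (Curv2.bc k X K) := by
    have hk := h k
    obtain ⟨y, -⟩ := surjective_bcFst (k := k) (X := X) K (Curv2.bcFst k X k hk.toNonempty.some)
    exact ⟨y⟩
  have : PreirreducibleSpace (Curv2.bc k X K) := by
    refine ⟨fun U V hU hV hU' hV' => ?_⟩
    obtain ⟨a, -, ha⟩ := hU'
    obtain ⟨b, -, hb⟩ := hV'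
    obtain ⟨F, hF, hFd⟩ := exists_open_descend hU ha
    obtain ⟨G, hG, hGd⟩ := exists_open_descend hV hb
    let H : IntermediateField k K := F ⊔ G
    obtain ⟨U', hU', haU', hUU'⟩ := hFd H le_sup_left
    obtain ⟨V', hV', hbV', hVV'⟩ := hGd H le_sup_right
    have := h H
    obtain ⟨w, -, hwU, hwV⟩ := (IrreducibleSpace.isIrreducible_univ (Curv2.bc k X H)).2 U' V' hU' hV'
      ⟨_, trivial, haU'⟩ ⟨_, trivial, hbV'⟩
    obtain ⟨y, hy⟩ := (FBaseLib.bcMap (X ↘ Spec (CommRingCat.of k)) H K).surjective w
    exact ⟨y, trivial, hUU' (show _ ∈ U' by rw [hy]; exact hwU), hVV' (show _ ∈ V' by rw [hy]; exact hwV)⟩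
  exact ⟨hne⟩

theorem geometricallyIrreducible_of_finiteSeparable
    (h : ∀ (k' : Type u) [Field k'] [Algebra k k'] [FiniteDimensional k k'] [Algebra.IsSeparable k k'],
      IrreducibleSpace (Curv2.bc k X k')) : GeometricallyIrreducible (X ↘ Spec (CommRingCat.of k)) :=
  geometricallyIrreducible_of_separableClosure (irreducibleSpace_bc_of_finiteSeparable h)

theorem irreducibleSpace_bc [GeometricallyIrreducible (X ↘ Spec (CommRingCat.of k))]
    (K : Type u) [Field K] [Algebra k K] : IrreducibleSpace (Curv2.bc k X K) :=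
  pullback_of_geometrically
    (‹GeometricallyIrreducible (X ↘ Spec (CommRingCat.of k))›.geometrically_irreducibleSpace) K _

/-- Maximal points of `X_K` lie over maximal points of `X`. -/
theorem bcFst_maximal (K : Type u) [Field K] [Algebra k K] {η : Curv2.bc k X K}
    (h : ∀ y, y ⤳ η → y = η) (x : X) (hx : x ⤳ Curv2.bcFst k X K η) : x = Curv2.bcFst k X K η := by
  obtain ⟨y, hy, rfl⟩ := generalizingMap_bcFst K hx
  rw [h y hy]

theorem exists_maximal_component {Y : Scheme.{u}} (z : Y) :
    ∃ η : Y, η ⤳ z ∧ (∀ y, y ⤳ η → y = η) ∧ closure ({η} : Set Y) ∈ irreducibleComponents (Y : Type u) := by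
  obtain ⟨Z, hZ, hz⟩ := exists_mem_irreducibleComponents_subset_of_isIrreducible {z} isIrreducible_singleton
  have hg := hZ.1.isGenericPoint_genericPoint_closure
  rw [(isClosed_of_mem_irreducibleComponents Z hZ).closure_eq] at hg
  refine ⟨hZ.1.genericPoint, hg.specializes (hz rfl), fun y hy => ?_, hg.symm ▸ hZ⟩
  have h1 : Z ⊆ closure {y} := by
    rw [← hg]
    exact closure_minimal (Set.singleton_subset_iff.2 hy.mem_closure) isClosed_closure
  have h2 := hZ.2 isIrreducible_singleton.closure h1
  have h3 : hZ.1.genericPoint ⤳ y := hg.specializes (h2 (subset_closure rfl))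
  exact (hy.antisymm h3).eq

theorem maximal_of_component {Y : Scheme.{u}} {Z : Set Y} (hZ : Z ∈ irreducibleComponents (Y : Type u)) :
    ∃ η : Y, IsGenericPoint η Z ∧ ∀ y, y ⤳ η → y = η := by
  have hg := hZ.1.isGenericPoint_genericPoint_closure
  rw [(isClosed_of_mem_irreducibleComponents Z hZ).closure_eq] at hg
  refine ⟨_, hg, fun y hy => ?_⟩
  have h1 : Z ⊆ closure {y} := by
    rw [← hg]
    exact closure_minimal (Set.singleton_subset_iff.2 hy.mem_closure) isClosed_closure
  have h3 : hZ.1.genericPoint ⤳ y := hg.specializes (hZ.2 isIrreducible_singleton.closure h1 (subset_closure rfl))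
  exact (hy.antisymm h3).eq

/-- The fibre over the generic point of an irreducible `X_K` is irreducible. -/
theorem irreducibleSpace_tensor_of_bc [IrreducibleSpace X] (K : Type u) [Field K] [Algebra k K]
    [IrreducibleSpace (Curv2.bc k X K)] :
    IrreducibleSpace (PrimeSpectrum (X.residueField (genericPoint X) ⊗[k] K)) := by
  rw [← isIrreducible_fibre_iff]
  have hη : genericPoint (Curv2.bc k X K) ∈ Curv2.bcFst k X K ⁻¹' {genericPoint X} := by
    refine (bcFst_maximal K (fun y hy => (hy.antisymm (genericPoint_specializes y)).eq) _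
      (genericPoint_specializes _)).symm
  rw [isIrreducible_iff_closure.symm,
    show closure (Curv2.bcFst k X K ⁻¹' {genericPoint X}) = Set.univ from
      Set.eq_univ_of_forall fun y => closure_mono (Set.singleton_subset_iff.2 hη)
        (genericPoint_specializes y).mem_closure]
  exact IrreducibleSpace.isIrreducible_univ _

theorem geometricallyIrreducible_iff_separable [IrreducibleSpace X] :
    GeometricallyIrreducible (X ↘ Spec (CommRingCat.of k)) ↔
      ∀ a : X.residueField (genericPoint X), IsSeparable k a →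
        a ∈ Set.range (algebraMap k (X.residueField (genericPoint X))) := by
  constructor
  · intro h a ha
    have := IntermediateField.adjoin.finiteDimensional ha.isIntegral
    have := irreducibleSpace_bc (k := k) (X := X) (IntermediateField.adjoin k {a})
    exact mem_range_of_irreducibleSpace_tensor _ ha _ (AlgHom.id k _) (irreducibleSpace_tensor_of_bc _)
  · intro h
    refine geometricallyIrreducible_of_finiteSeparable fun k' _ _ _ _ => ?_
    have := isDomain_tensor_of_separable k' (X.residueField (genericPoint X)) h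
    exact irreducibleSpace_bc_of_fibre k' inferInstance

theorem geometricallyIrreducible_iff_square :
    GeometricallyIrreducible (X ↘ Spec (CommRingCat.of k)) ↔
      IrreducibleSpace ↥(pullback (X ↘ Spec (CommRingCat.of k)) (X ↘ Spec (CommRingCat.of k))) := by
  let f := X ↘ Spec (CommRingCat.of k)
  have : Surjective (pullback.fst f f) := ⟨fun x => by
    obtain ⟨t, ht, -⟩ := Scheme.Pullback.exists_preimage_pullback (f := f) (g := f) x x rfl
    exact ⟨t, ht⟩⟩
  constructor
  · intro h
    have : IrreducibleSpace X := GeometricallyIrreducible.irreducibleSpace_of_subsingleton f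
    infer_instance
  · intro h
    have : IrreducibleSpace X := FBaseLib.irreducibleSpace_of_surjective (pullback.fst f f)
    have : Surjective (pullback.snd f f) := ⟨fun x => by
      obtain ⟨t, -, ht⟩ := Scheme.Pullback.exists_preimage_pullback (f := f) (g := f) x x rfl
      exact ⟨t, ht⟩⟩
    rw [geometricallyIrreducible_iff_separable]
    intro a ha
    let E := X.residueField (genericPoint X)
    let ι := X.fromSpecResidueField (genericPoint X)
    let m : pullback (ι ≫ f) (ι ≫ f) ⟶ pullback f f :=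
      pullback.map _ _ _ _ ι ι (𝟙 _) (by simp) (by simp)
    have hr : Set.range m = pullback.fst f f ⁻¹' {genericPoint X} ∩ pullback.snd f f ⁻¹' {genericPoint X} := by
      rw [Scheme.Pullback.range_map, Scheme.range_fromSpecResidueField]
    have hpt : ∀ (p : pullback f f ⟶ X) [Surjective p], p (genericPoint (pullback f f : Scheme.{u})) = genericPoint X :=
      fun p _ => by
        obtain ⟨t, ht⟩ := p.surjective (genericPoint X)
        have h1 : p (genericPoint (pullback f f : Scheme.{u})) ⤳ genericPoint X :=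
          ht ▸ (genericPoint_specializes t).map p.continuous
        exact (h1.antisymm (genericPoint_specializes _)).eq
    have hirr : IsIrreducible (Set.range m) := by
      rw [← isIrreducible_iff_closure, show closure (Set.range m) = Set.univ from
        Set.eq_univ_of_forall fun y => closure_mono (Set.singleton_subset_iff.2
          (hr.ge ⟨hpt _, hpt _⟩)) (genericPoint_specializes y).mem_closure]
      exact IrreducibleSpace.isIrreducible_univ _
    have : IsPreimmersion m := MorphismProperty.pullbackMap (P := @IsPreimmersion) (f' := f) (g' := f) (inferInstance : IsPreimmersion ι) (inferInstance : IsPreimmersion ι) rfl rfl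
    rw [← Set.image_univ, isIrreducible_image_iff m.isEmbedding.isInducing, ← Set.top_eq_univ,
      ← irreducibleSpace_def] at hirr
    have hE : IrreducibleSpace (PrimeSpectrum (E ⊗[k] E)) :=
      ((pullback.congrHom (fromSpecResidueField_over _) (fromSpecResidueField_over _)) ≪≫
        pullbackSpecIso k E E).hom.homeomorph.irreducibleSpace_iff.1 hirr
    exact mem_range_of_irreducibleSpace_tensor _ ha E (IntermediateField.adjoin k {a}).val hE

theorem geometricallyIrreducible_of_dense_rational [IrreducibleSpace X]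
    (hd : Dense {x : X | Function.Surjective (Curv2.resMap k X x)}) :
    GeometricallyIrreducible (X ↘ Spec (CommRingCat.of k)) := by
  refine geometricallyIrreducible_of_finiteSeparable fun k' _ _ _ _ => ?_
  have hne : Nonempty (Curv2.bc k X k') := by
    obtain ⟨y, -⟩ := surjective_bcFst (k := k) (X := X) k' (genericPoint X)
    exact ⟨y⟩
  have : PreirreducibleSpace (Curv2.bc k X k') := by
    refine ⟨fun U V hU hV hU' hV' => ?_⟩
    obtain ⟨a, -, ha⟩ := hU'
    obtain ⟨b, -, hb⟩ := hV'
    obtain ⟨_, -, ⟨u, hu, rfl⟩, ⟨v, hv, hvu⟩⟩ := (IrreducibleSpace.isIrreducible_univ X).2 _ _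
      (isOpenMap_bcFst k' U hU) (isOpenMap_bcFst k' V hV)
      ⟨_, trivial, ⟨a, ha, rfl⟩⟩ ⟨_, trivial, ⟨b, hb, rfl⟩⟩
    obtain ⟨x, ⟨⟨u, hu, rfl⟩, ⟨v, hv, hvu⟩⟩, hx⟩ := hd.inter_open_nonempty _
      ((isOpenMap_bcFst k' U hU).inter (isOpenMap_bcFst k' V hV)) ⟨_, ⟨⟨u, hu, rfl⟩, ⟨v, hv, hvu⟩⟩⟩
    let e : k ≃ₐ[k] X.residueField (Curv2.bcFst k X k' u) :=
      AlgEquiv.ofBijective (Algebra.ofId k _) ⟨(algebraMap k (X.residueField (Curv2.bcFst k X k' u))).injective, hx⟩
    let e' : X.residueField (Curv2.bcFst k X k' u) ⊗[k] k' ≃ₐ[k] k' :=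
      (Algebra.TensorProduct.congr e.symm AlgEquiv.refl).trans (Algebra.TensorProduct.lid k k')
    have : Subsingleton (PrimeSpectrum (X.residueField (Curv2.bcFst k X k' u) ⊗[k] k')) :=
      (PrimeSpectrum.comapEquiv e'.toRingEquiv).toEquiv.subsingleton
    have : Subsingleton (Curv2.bcFst k X k' ⁻¹' {Curv2.bcFst k X k' u}) := by
      let ι := X.fromSpecResidueField (Curv2.bcFst k X k' u)
      have hr : Curv2.bcFst k X k' ⁻¹' {Curv2.bcFst k X k' u} = Set.range (pullback.snd ι (Curv2.bcFst k X k')) := by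
        rw [Scheme.Pullback.range_snd, Scheme.range_fromSpecResidueField]
      rw [hr]
      have : Subsingleton ↥(pullback ι (Curv2.bcFst k X k')) := @Equiv.subsingleton _ _ (fibreIso k' _).hom.homeomorph.toEquiv (inferInstanceAs (Subsingleton (PrimeSpectrum (X.residueField (Curv2.bcFst k X k' u) ⊗[k] k'))))
      exact (Set.rangeFactorization_surjective).subsingleton
    have huv : v = u := congrArg Subtype.val (Subsingleton.elim
      (⟨v, hvu⟩ : Curv2.bcFst k X k' ⁻¹' {Curv2.bcFst k X k' u}) ⟨u, rfl⟩)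
    exact ⟨u, trivial, hu, huv ▸ hv⟩
  exact ⟨hne⟩

theorem geometricallyIrreducible_of_cover {ι : Type u} (U : ι → X.Opens) (hne : Nonempty ι)
    (hcov : (⨆ i, U i) = ⊤) (hmeet : ∀ i j, ((U i : Set X) ∩ (U j : Set X)).Nonempty)
    (hU : ∀ i, GeometricallyIrreducible ((U i).ι ≫ (X ↘ Spec (CommRingCat.of k)))) :
    GeometricallyIrreducible (X ↘ Spec (CommRingCat.of k)) := by
  refine geometricallyIrreducible_of_finiteSeparable fun k' _ _ _ _ => ?_
  let p := Curv2.bcFst k X k'
  let W : ι → Set (Curv2.bc k X k') := fun i => p ⁻¹' (U i : Set X)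
  have hW : ∀ i, IsIrreducible (W i) := fun i => by
    have h1 : W i = Set.range (pullback.snd (U i).ι p) := by
      rw [Scheme.Pullback.range_snd, Scheme.Opens.range_ι]
    have : IrreducibleSpace ↥(pullback ((U i).ι ≫ X ↘ Spec (CommRingCat.of k))
        (Spec.map (CommRingCat.ofHom (algebraMap k k')))) :=
      pullback_of_geometrically (hU i).geometrically_irreducibleSpace k' _
    have : IrreducibleSpace ↥(pullback (U i).ι p) :=
      (pullbackRightPullbackFstIso _ _ (U i).ι).hom.homeomorph.irreducibleSpace_iff.2 this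
    rw [h1, ← Set.image_univ]
    exact (IrreducibleSpace.isIrreducible_univ _).image _ (pullback.snd (U i).ι p).continuous.continuousOn
  have hcovW : ∀ y, ∃ i, y ∈ W i := fun y =>
    TopologicalSpace.Opens.mem_iSup.1 (hcov ▸ (trivial : p y ∈ (⊤ : X.Opens)))
  have : PreirreducibleSpace (Curv2.bc k X k') := by
    refine ⟨fun A B hA hB hA' hB' => ?_⟩
    obtain ⟨a, -, ha⟩ := hA'
    obtain ⟨b, -, hb⟩ := hB'
    obtain ⟨i, hi⟩ := hcovW a
    obtain ⟨j, hj⟩ := hcovW b
    obtain ⟨x, hxi, hxj⟩ := hmeet i j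
    obtain ⟨y, hy⟩ := surjective_bcFst (k := k) (X := X) k' x
    obtain ⟨c, hci, hcA, hcj⟩ := (hW i).2 A (W j) hA ((U j).2.preimage p.continuous) ⟨a, hi, ha⟩
      ⟨y, show p y ∈ U i by rwa [hy], show p y ∈ U j by rwa [hy]⟩
    obtain ⟨d, -, hdA, hdB⟩ := (hW j).2 A B hA hB ⟨c, hcj, hcA⟩ ⟨b, hj, hb⟩
    exact ⟨d, trivial, hdA, hdB⟩
  obtain ⟨i⟩ := hne
  exact ⟨(hW i).nonempty.to_type.map (·)⟩

theorem preimage_component (K : Type u) [Field K] [Algebra k K] {T : Set X}
    (hT : T ∈ irreducibleComponents (X : Type u)) :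
    Curv2.bcFst k X K ⁻¹' T = ⋃₀ {Z : Set ↥(Curv2.bc k X K) |
      Z ∈ irreducibleComponents ↥(Curv2.bc k X K) ∧ Z ⊆ Curv2.bcFst k X K ⁻¹' T} := by
  refine subset_antisymm (fun z hz => ?_) (Set.sUnion_subset fun Z hZ => hZ.2)
  obtain ⟨ξ, hξ, hmax⟩ := maximal_of_component hT
  obtain ⟨z', hz'z, hz'⟩ := generalizingMap_bcFst K (hξ.specializes hz)
  obtain ⟨η, hη, -, hηc⟩ := exists_maximal_component z'
  have h1 : Curv2.bcFst k X K η = ξ := hmax _ (hz' ▸ hη.map (Curv2.bcFst k X K).continuous)
  refine ⟨_, ⟨hηc, ?_⟩, (hη.trans hz'z).mem_closure⟩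
  refine closure_minimal (Set.singleton_subset_iff.2 ?_) ((isClosed_of_mem_irreducibleComponents T hT).preimage (Curv2.bcFst k X K).continuous)
  show Curv2.bcFst k X K η ∈ T
  rw [h1]; exact hξ.mem

theorem components_injective_of_isSepClosed [IsSepClosed k] (K : Type u) [Field K] [Algebra k K]
    {T T' : Set (Curv2.bc k X K)} (hT : T ∈ irreducibleComponents (Curv2.bc k X K : Type u))
    (hT' : T' ∈ irreducibleComponents (Curv2.bc k X K : Type u))
    (h : Curv2.bcFst k X K '' T = Curv2.bcFst k X K '' T') : T = T' := by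
  obtain ⟨η, hη, -⟩ := maximal_of_component hT
  obtain ⟨η', hη', -⟩ := maximal_of_component hT'
  let p := Curv2.bcFst k X K
  have key : ∀ {A : Set (Curv2.bc k X K)} {g : Curv2.bc k X K}, IsGenericPoint g A → A ⊆ p ⁻¹' closure {p g} :=
    fun {A g} hg a ha => ((hg.specializes ha).map p.continuous).mem_closure
  have hξ : p η = p η' := by
    refine ((Specializes.antisymm ?_ ?_)).eq
    · obtain ⟨w, hw, hwe⟩ := (show p η' ∈ p '' T from h ▸ ⟨η', hη'.mem, rfl⟩)
      exact specializes_iff_mem_closure.2 (hwe ▸ key hη hw)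
    · obtain ⟨w, hw, hwe⟩ := (show p η ∈ p '' T' from h ▸ ⟨η, hη.mem, rfl⟩)
      exact specializes_iff_mem_closure.2 (hwe ▸ key hη' hw)
  have hirr : IsIrreducible (p ⁻¹' closure {p η}) := by
    refine isIrreducible_singleton.closure.preimage_of_isPreirreducible_fiber _ (isOpenMap_bcFst K)
      (fun x => (isIrreducible_fibre K x).isPreirreducible) ?_
    rw [Set.range_eq_univ.mpr (surjective_bcFst K), Set.inter_univ]
    exact ⟨_, subset_closure rfl⟩
  exact (subset_antisymm (key hη) (hT.2 hirr (key hη))).trans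
    (subset_antisymm (hξ ▸ key hη') (hT'.2 hirr (hξ ▸ key hη'))).symm

theorem exists_preimage_eq_of_invariant (K : Type u) [Field K] [Algebra k K] [Normal k K]
    (T' : Set (Curv2.bc k X K)) (hT' : IsClosed T')
    (hinv : ∀ σ : K ≃ₐ[k] K, Curv2.galAct k X K σ '' T' = T') :
    ∃ T : Set X, IsClosed T ∧ Curv2.bcFst k X K ⁻¹' T = T' := by
  refine ⟨(Curv2.bcFst k X K '' T'ᶜ)ᶜ, (isOpenMap_bcFst K _ hT'.isOpen_compl).isClosed_compl, ?_⟩
  ext y
  constructor
  · intro hy
    by_contra h
    exact hy ⟨y, h, rfl⟩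
  · rintro hy ⟨z, hz, hzy⟩
    obtain ⟨σ, hσ⟩ := exists_galAct_eq y z hzy.symm
    exact hz (hσ ▸ hinv σ ▸ ⟨y, hy, rfl⟩)

end Groth.Agent.GeomField
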