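import Groth.Agent.GeomField.Chart
import Groth.Agent.FBaseLib.Compositum
import Groth.Agent.FDescent.Generalizing
import Groth.Agent.GrpSchLib.GeomIrr
import Mathlib.AlgebraicGeometry.Morphisms.UniversallyInjective
import Mathlib.AlgebraicGeometry.Geometrically.Irreducible
import Mathlib.FieldTheory.IsSepClosed

/-!
# Fibres of base changes to field extensions
-/

open CategoryTheory CategoryTheory.Limits AlgebraicGeometry TensorProduct

set_option backward.isDefEq.respectTransparency false
set_option backward.isDefEq.respectTransparency.types false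

namespace Groth.Agent.GeomField

universe u

attribute [local instance] Curv2.resAlgebra

theorem isIrreducible_image_iff {α β : Type*} [TopologicalSpace α] [TopologicalSpace β] {f : α → β}
    (hf : Topology.IsInducing f) {s : Set α} : IsIrreducible (f '' s) ↔ IsIrreducible s := by
  refine ⟨fun h => ⟨Set.image_nonempty.1 h.1, fun u v hu hv hsu hsv => ?_⟩,
    fun h => h.image f hf.continuous.continuousOn⟩
  obtain ⟨U, hU, rfl⟩ := hf.isOpen_iff.1 hu
  obtain ⟨V, hV, rfl⟩ := hf.isOpen_iff.1 hv
  obtain ⟨a, ha, haU⟩ := hsu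
  obtain ⟨b, hb, hbV⟩ := hsv
  obtain ⟨_, ⟨c, hc, rfl⟩, hcU, hcV⟩ := h.2 U V hU hV ⟨f a, ⟨a, ha, rfl⟩, haU⟩ ⟨f b, ⟨b, hb, rfl⟩, hbV⟩
  exact ⟨c, hc, hcU, hcV⟩

variable {k : Type u} [Field k] {X : Scheme.{u}} [X.Over (Spec (CommRingCat.of k))]
  (K : Type u) [Field K] [Algebra k K]

theorem fromSpecResidueField_over (x : X) :
    X.fromSpecResidueField x ≫ (X ↘ Spec (CommRingCat.of k)) =
      Spec.map (CommRingCat.ofHom (algebraMap k (X.residueField x))) := by
  have h : CommRingCat.ofHom (algebraMap k (X.residueField x)) =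
      (Scheme.ΓSpecIso (CommRingCat.of k)).inv ≫ (X ↘ Spec (CommRingCat.of k)).appTop ≫
        X.presheaf.germ ⊤ x trivial ≫ X.residue x := rfl
  rw [h, Spec.map_comp, Spec.map_comp, Spec.map_comp, Scheme.fromSpecResidueField]
  simp only [Category.assoc]
  congr 1
  have h1 : Spec.map (X.presheaf.germ ⊤ x trivial) = X.fromSpecStalk x ≫ X.toSpecΓ :=
    (Scheme.fromSpecStalk_toSpecΓ X x).symm
  rw [h1, Category.assoc, ← Scheme.toSpecΓ_naturality_assoc]
  congr 1
  rw [← SpecMap_ΓSpecIso_hom, ← Spec.map_comp, Iso.inv_hom_id, Spec.map_id, Category.comp_id]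

theorem surjective_bcFst : Function.Surjective (Curv2.bcFst k X K) :=
  (FBaseLib.surjective_bcπ (X ↘ Spec (CommRingCat.of k)) K).surj

theorem isOpenMap_bcFst : IsOpenMap (Curv2.bcFst k X K) :=
  FBaseLib.isOpenMap_bcπ (X ↘ Spec (CommRingCat.of k)) K

theorem generalizingMap_bcFst : GeneralizingMap (Curv2.bcFst k X K) := by
  have : Flat (Curv2.bcFst k X K) :=
    MorphismProperty.pullback_fst _ _ (GrpSchLib.flat_spec_map_field (algebraMap k K))
  exact Flat.generalizingMap _

/-- The fibre of `X_K` over `x` is `Spec (κ(x) ⊗ K)`. -/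
noncomputable def fibreIso (x : X) :
    pullback (X.fromSpecResidueField x) (Curv2.bcFst k X K) ≅
      Spec (CommRingCat.of (X.residueField x ⊗[k] K)) :=
  pullbackRightPullbackFstIso (X ↘ Spec (CommRingCat.of k))
      (Spec.map (CommRingCat.ofHom (algebraMap k K))) (X.fromSpecResidueField x) ≪≫
    pullback.congrHom (fromSpecResidueField_over x) rfl ≪≫ pullbackSpecIso k (X.residueField x) K

theorem isIrreducible_fibre_iff (x : X) :
    IsIrreducible (Curv2.bcFst k X K ⁻¹' {x}) ↔
      IrreducibleSpace (PrimeSpectrum (X.residueField x ⊗[k] K)) := by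
  let ι := X.fromSpecResidueField x
  let p := Curv2.bcFst k X K
  have hr : p ⁻¹' {x} = Set.range (pullback.snd ι p) := by
    rw [Scheme.Pullback.range_snd, Scheme.range_fromSpecResidueField]
  have : IsPreimmersion (pullback.snd ι p) := MorphismProperty.pullback_snd _ _ inferInstance
  have he := (pullback.snd ι p).isEmbedding
  rw [hr, ← Set.image_univ, isIrreducible_image_iff he.isInducing]
  have h2 : IrreducibleSpace ↥(pullback ι p) ↔
      IrreducibleSpace ↥(Spec (CommRingCat.of (X.residueField x ⊗[k] K))) :=
    (fibreIso K x).hom.homeomorph.irreducibleSpace_iff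
  rw [← Set.top_eq_univ, ← irreducibleSpace_def]
  exact h2

/-- `X_K` is irreducible if `X` is and the fibre over the generic point is. -/
theorem irreducibleSpace_bc_of_fibre [IrreducibleSpace X]
    (h : IrreducibleSpace (PrimeSpectrum (X.residueField (genericPoint X) ⊗[k] K))) :
    IrreducibleSpace (Curv2.bc k X K) :=
  FDescent.irreducible_of_generic_fibre (generalizingMap_bcFst K) ((isIrreducible_fibre_iff K _).2 h)

theorem bijective_bcFst_of_purelyInseparable [IsPurelyInseparable k K] :
    Function.Bijective (Curv2.bcFst k X K) := by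
  refine ⟨?_, surjective_bcFst K⟩
  have : UniversallyInjective (Spec.map (CommRingCat.ofHom (algebraMap k K))) := by
    refine ((tfae_universallyInjective _).out 0 1).2 fun L hL g₁ g₂ hg => ?_
    obtain ⟨a, rfl⟩ := Spec.map_surjective g₁
    obtain ⟨b, rfl⟩ := Spec.map_surjective g₂
    have hg' : CommRingCat.ofHom (algebraMap k K) ≫ a = CommRingCat.ofHom (algebraMap k K) ≫ b :=
      Spec.map_injective (by rw [Spec.map_comp, Spec.map_comp]; exact hg)
    congr 1
    ext1
    letI := hL
    exact IsPurelyInseparable.injective_comp_algebraMap k K L congr($(hg').hom)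
  have : UniversallyInjective (Curv2.bcFst k X K) := MorphismProperty.pullback_fst _ _ this
  exact (Curv2.bcFst k X K).injective

theorem irreducibleSpace_bc_of_purelyInseparable [IsPurelyInseparable k K] [IrreducibleSpace X] :
    IrreducibleSpace (Curv2.bc k X K) := by
  have h : IsHomeomorph (Curv2.bcFst k X K) :=
    ⟨(Curv2.bcFst k X K).continuous, isOpenMap_bcFst K, bijective_bcFst_of_purelyInseparable K⟩
  exact (h.homeomorph _).irreducibleSpace_iff.2 ‹_›

theorem geometricallyIrreducible_of_isSepClosed [IsSepClosed k] [IrreducibleSpace X] :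
    GeometricallyIrreducible (X ↘ Spec (CommRingCat.of k)) :=
  GrpSchLib.geometricallyIrreducible_of_algClosure _
    (irreducibleSpace_bc_of_purelyInseparable (AlgebraicClosure k))

theorem geometricallyIrreducible_of_bc (k' : Type u) [Field k'] [Algebra k k']
    (h : GeometricallyIrreducible (Curv2.bcSnd k X k')) :
    GeometricallyIrreducible (X ↘ Spec (CommRingCat.of k)) := by
  have : Surjective (Spec.map (CommRingCat.ofHom (algebraMap k k'))) :=
    GrpSchLib.surjective_spec_map_field _
  refine ⟨FBaseLib.geometrically_of_surjective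
    (fun {Z W} q _ _ h => @FBaseLib.irreducibleSpace_of_surjective Z W q inferInstance h) _ _
    h.geometrically_irreducibleSpace⟩

/-- Over a separably closed field all fibres of `X_K → X` are irreducible. -/
theorem isIrreducible_fibre [IsSepClosed k] (x : X) : IsIrreducible (Curv2.bcFst k X K ⁻¹' {x}) := by
  rw [isIrreducible_fibre_iff]
  let Y : Scheme.{u} := Spec (CommRingCat.of (X.residueField x))
  let : Y.Over (Spec (CommRingCat.of k)) :=
    ⟨Spec.map (CommRingCat.ofHom (algebraMap k (X.residueField x)))⟩
  have : IrreducibleSpace Y :=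
    inferInstanceAs (IrreducibleSpace (PrimeSpectrum (X.residueField x)))
  have hY := geometricallyIrreducible_of_isSepClosed (k := k) (X := Y)
  have h : IrreducibleSpace ↥(pullback (Spec.map (CommRingCat.ofHom (algebraMap k (X.residueField x))))
      (Spec.map (CommRingCat.ofHom (algebraMap k K)))) :=
    pullback_of_geometrically hY.geometrically_irreducibleSpace K _
  exact (pullbackSpecIso k (X.residueField x) K).hom.homeomorph.irreducibleSpace_iff.1 h

end Groth.Agent.GeomField
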