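import Groth.Prelude.Def_Curv2
import Mathlib.AlgebraicGeometry.PullbackCarrier
import Mathlib.AlgebraicGeometry.Pullbacks
import Mathlib.AlgebraicGeometry.Properties
import Mathlib.RingTheory.Localization.AtPrime.Basic

/-!
# Affine charts of a scheme over a field and of its base changes
-/

open CategoryTheory CategoryTheory.Limits AlgebraicGeometry TensorProduct

set_option backward.isDefEq.respectTransparency false
set_option backward.isDefEq.respectTransparency.types false

namespace Groth.Agent.GeomField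

universe u

attribute [local instance] Curv2.stalkAlgebra

variable {k : Type u} [Field k] {X : Scheme.{u}} [X.Over (Spec (CommRingCat.of k))]

/-- An affine chart of a scheme over `k`. -/
structure Chart (k : Type u) [Field k] (X : Scheme.{u}) [X.Over (Spec (CommRingCat.of k))] where
  R : Type u
  [ring : CommRing R]
  [alg : Algebra k R]
  emb : Spec (CommRingCat.of R) ⟶ X
  [isOpen : IsOpenImmersion emb]
  over_eq : emb ≫ (X ↘ Spec (CommRingCat.of k)) = Spec.map (CommRingCat.ofHom (algebraMap k R))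

attribute [instance] Chart.ring Chart.alg Chart.isOpen

theorem exists_chart (x : X) :
    ∃ (c : Chart k X) (P : Spec (CommRingCat.of c.R)), c.emb P = x := by
  suffices ∀ (R : CommRingCat.{u}) (e : Spec R ⟶ X) [IsOpenImmersion e] (y : Spec R),
      ∃ (c : Chart k X) (P : Spec (CommRingCat.of c.R)), c.emb P = e y by
    obtain ⟨i, y, rfl⟩ := X.affineCover.exists_eq x
    exact this _ (X.affineCover.f i) y
  intro R e _ y
  obtain ⟨φ, hφ⟩ := Spec.map_surjective (e ≫ (X ↘ Spec (CommRingCat.of k)))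
  letI : Algebra k R := φ.hom.toAlgebra
  exact ⟨{ R := R, emb := e, over_eq := hφ.symm }, y, rfl⟩

namespace Chart

variable (c : Chart k X)

/-- Sections over the chart, as germs. -/
noncomputable def toStalk (P : Spec (CommRingCat.of c.R)) : c.R →+* X.presheaf.stalk (c.emb P) :=
  ((StructureSheaf.toStalk c.R P) ≫ inv (c.emb.stalkMap P)).hom

theorem toStalk_algebraMap (P : Spec (CommRingCat.of c.R)) (a : k) :
    c.toStalk P (algebraMap k c.R a) = Curv2.stalkMap k X (c.emb P) a := by
  have key : CommRingCat.ofHom (algebraMap k c.R) ≫ StructureSheaf.toStalk c.R P =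
      (Scheme.ΓSpecIso (CommRingCat.of k)).inv ≫ (X ↘ Spec (CommRingCat.of k)).appTop ≫
        X.presheaf.germ ⊤ (c.emb P) trivial ≫ c.emb.stalkMap P := by
    rw [Scheme.Hom.germ_stalkMap, ← Category.assoc (X ↘ Spec (CommRingCat.of k)).appTop]
    have h1 : (X ↘ Spec (CommRingCat.of k)).appTop ≫ c.emb.appTop =
        (Spec.map (CommRingCat.ofHom (algebraMap k c.R))).appTop := by
      rw [← Scheme.Hom.comp_appTop, c.over_eq]
    erw [h1]
    rw [← Category.assoc, ← Scheme.ΓSpecIso_inv_naturality, Category.assoc]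
    rfl
  have key' := key =≫ inv (c.emb.stalkMap P)
  simp only [Category.assoc, IsIso.hom_inv_id, Category.comp_id] at key'
  exact congr($key' a)

/-- The local ring at a point of the chart, as an algebra over the chart ring. -/
@[reducible] noncomputable def stalkAlg (P : Spec (CommRingCat.of c.R)) :
    Algebra c.R (X.presheaf.stalk (c.emb P)) :=
  (c.toStalk P).toAlgebra

theorem isScalarTower_stalk (P : Spec (CommRingCat.of c.R)) :
    letI := c.stalkAlg P
    IsScalarTower k c.R (X.presheaf.stalk (c.emb P)) :=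
  letI := c.stalkAlg P
  IsScalarTower.of_algebraMap_eq fun a => (c.toStalk_algebraMap P a).symm

theorem isLocalization_stalk (P : Spec (CommRingCat.of c.R)) :
    letI := c.stalkAlg P
    IsLocalization.AtPrime (X.presheaf.stalk (c.emb P)) (PrimeSpectrum.asIdeal (R := c.R) P) := by
  letI := c.stalkAlg P
  let e : (Spec.structureSheaf c.R).presheaf.stalk P ≅ X.presheaf.stalk (c.emb P) :=
    (asIso (c.emb.stalkMap P)).symm
  exact IsLocalization.isLocalization_of_algEquiv (PrimeSpectrum.asIdeal (R := c.R) P).primeCompl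
    (AlgEquiv.ofRingEquiv (f := e.commRingCatIsoToRingEquiv) fun _ => rfl)

theorem exists_stalk_algebra (P : Spec (CommRingCat.of c.R)) :
    ∃ (_ : Algebra c.R (X.presheaf.stalk (c.emb P))),
      IsScalarTower k c.R (X.presheaf.stalk (c.emb P)) ∧
      IsLocalization.AtPrime (X.presheaf.stalk (c.emb P)) (PrimeSpectrum.asIdeal (R := c.R) P) :=
  ⟨c.stalkAlg P, c.isScalarTower_stalk P, c.isLocalization_stalk P⟩

variable (K : Type u) [Field K] [Algebra k K]

/-- The chart of the base change. -/
noncomputable def bcEmb : Spec (CommRingCat.of (c.R ⊗[k] K)) ⟶ Curv2.bc k X K :=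
  (pullbackSpecIso k c.R K).inv ≫ (pullback.congrHom c.over_eq rfl).inv ≫
    (pullbackRightPullbackFstIso (X ↘ Spec (CommRingCat.of k)) (Spec.map (CommRingCat.ofHom (algebraMap k K)))
      c.emb).inv ≫ pullback.snd c.emb (Curv2.bcFst k X K)

instance : IsOpenImmersion (c.bcEmb K) := by
  unfold bcEmb; infer_instance

theorem bcEmb_fst : c.bcEmb K ≫ Curv2.bcFst k X K =
    Spec.map (CommRingCat.ofHom (algebraMap c.R (c.R ⊗[k] K))) ≫ c.emb := by
  rw [bcEmb, Category.assoc, Category.assoc, Category.assoc, ← pullback.condition,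
    pullbackRightPullbackFstIso_inv_fst_assoc, pullback.congrHom_inv, pullback.lift_fst_assoc,
    Category.comp_id, pullbackSpecIso_inv_fst'_assoc]

theorem range_bcEmb : Set.range (c.bcEmb K) = Curv2.bcFst k X K ⁻¹' Set.range c.emb := by
  rw [← Scheme.Pullback.range_snd]
  let φ := (pullbackSpecIso k c.R K).inv ≫ (pullback.congrHom c.over_eq rfl).inv ≫
    (pullbackRightPullbackFstIso (X ↘ Spec (CommRingCat.of k)) (Spec.map (CommRingCat.ofHom (algebraMap k K)))
      c.emb).inv
  have h : c.bcEmb K = φ ≫ pullback.snd c.emb (Curv2.bcFst k X K) := by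
    simp only [φ, bcEmb, Category.assoc]
  have : IsIso φ := inferInstance
  ext a
  constructor
  · rintro ⟨b, rfl⟩
    exact ⟨φ b, by rw [h]; rfl⟩
  · rintro ⟨b, rfl⟩
    obtain ⟨b', rfl⟩ := φ.homeomorph.surjective b
    exact ⟨b', by rw [h]; rfl⟩

theorem bcFst_bcEmb (Q : Spec (CommRingCat.of (c.R ⊗[k] K))) :
    Curv2.bcFst k X K (c.bcEmb K Q) =
      c.emb (PrimeSpectrum.comap (algebraMap c.R (c.R ⊗[k] K)) Q) := by
  rw [← Scheme.Hom.comp_apply, bcEmb_fst]
  rfl

theorem bcEmb_fst_eq_iff (P : Spec (CommRingCat.of c.R)) (Q : Spec (CommRingCat.of (c.R ⊗[k] K))) :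
    Curv2.bcFst k X K (c.bcEmb K Q) = c.emb P ↔
      (PrimeSpectrum.asIdeal (R := c.R ⊗[k] K) Q).comap (algebraMap c.R (c.R ⊗[k] K)) = (PrimeSpectrum.asIdeal (R := c.R) P) := by
  rw [bcFst_bcEmb]
  exact c.emb.isOpenEmbedding.injective.eq_iff.trans PrimeSpectrum.ext_iff

theorem exists_bcEmb_eq (P : Spec (CommRingCat.of c.R)) (z : Curv2.bc k X K)
    (hz : Curv2.bcFst k X K z = c.emb P) : ∃ Q, c.bcEmb K Q = z := by
  show z ∈ Set.range (c.bcEmb K)
  rw [range_bcEmb]
  exact ⟨P, hz.symm⟩

theorem isReduced_stalk_bcEmb_iff (Q : Spec (CommRingCat.of (c.R ⊗[k] K))) :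
    _root_.IsReduced ((Curv2.bc k X K).presheaf.stalk (c.bcEmb K Q)) ↔
      _root_.IsReduced (Localization.AtPrime (PrimeSpectrum.asIdeal (R := c.R ⊗[k] K) Q)) := by
  let e₁ : (Spec.structureSheaf (c.R ⊗[k] K)).presheaf.stalk Q ≃ₐ[c.R ⊗[k] K] Localization.AtPrime (PrimeSpectrum.asIdeal (R := c.R ⊗[k] K) Q) :=
    IsLocalization.algEquiv (PrimeSpectrum.asIdeal (R := c.R ⊗[k] K) Q).primeCompl _ _
  let e : (Curv2.bc k X K).presheaf.stalk (c.bcEmb K Q) ≃+* Localization.AtPrime (PrimeSpectrum.asIdeal (R := c.R ⊗[k] K) Q) :=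
    (asIso ((c.bcEmb K).stalkMap Q)).commRingCatIsoToRingEquiv.trans e₁.toRingEquiv
  exact ⟨fun _ => isReduced_of_injective e.symm e.symm.injective,
    fun _ => isReduced_of_injective e e.injective⟩

end Chart

end Groth.Agent.GeomField
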