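import Groth.Agent.GeomField.Algebra
import Groth.Agent.GeomField.Chart
import Groth.Agent.FBaseLib.Compositum
import Mathlib.AlgebraicGeometry.Geometrically.Reduced
import Mathlib.AlgebraicGeometry.Morphisms.SchemeTheoreticallyDominant

/-!
# Geometric reducedness at a point
-/

open CategoryTheory CategoryTheory.Limits AlgebraicGeometry TensorProduct

set_option backward.isDefEq.respectTransparency false
set_option backward.isDefEq.respectTransparency.types false

namespace Groth.Agent.GeomField

universe u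

attribute [local instance] Curv2.stalkAlgebra

variable {k : Type u} [Field k] {X : Scheme.{u}} [X.Over (Spec (CommRingCat.of k))]

theorem isGeomReducedAt_iff (x : X) :
    Curv2.IsGeomReducedAt k X x ↔ Algebra.IsGeometricallyReduced k (X.presheaf.stalk x) := by
  obtain ⟨c, P, rfl⟩ := exists_chart (k := k) x
  obtain ⟨_, _, _⟩ := c.exists_stalk_algebra P
  rw [gr_atPrime_iff (PrimeSpectrum.asIdeal (R := c.R) P)]
  constructor
  · intro h L _ _ Q hQ hQP
    rw [← c.isReduced_stalk_bcEmb_iff L ⟨Q, hQ⟩]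
    exact h L _ ((c.bcEmb_fst_eq_iff L P ⟨Q, hQ⟩).2 hQP)
  · intro h L _ _ z hz
    obtain ⟨Q, rfl⟩ := c.exists_bcEmb_eq L P z hz
    have hQ : (PrimeSpectrum.asIdeal (R := c.R ⊗[k] L) Q).IsPrime := Q.2
    rw [c.isReduced_stalk_bcEmb_iff L Q]
    exact h L _ ((c.bcEmb_fst_eq_iff L P Q).1 hz)

/-- Geometric reducedness is tested on points. -/
theorem geometricallyReduced_iff :
    GeometricallyReduced (X ↘ Spec (CommRingCat.of k)) ↔ ∀ x : X, Curv2.IsGeomReducedAt k X x := by
  constructor
  · intro h x L _ _ z _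
    have : IsReduced (Curv2.bc k X L) :=
      pullback_of_geometrically (GeometricallyReduced.geometrically_isReduced) L _
    infer_instance
  · intro h
    refine ⟨geometrically_iff_of_commRing_of_isClosedUnderIsomorphisms.mpr fun L _ _ => ?_⟩
    have : ∀ z : Curv2.bc k X L, _root_.IsReduced ((Curv2.bc k X L).presheaf.stalk z) :=
      fun z => h _ L z rfl
    exact isReduced_of_isReduced_stalk (Curv2.bc k X L)

/-- Restriction of germs to generalizations, as an algebra map over `k`. -/
theorem exists_generalizationMap (c : Chart k X) {P P' : Spec (CommRingCat.of c.R)}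
    (hP : PrimeSpectrum.asIdeal (R := c.R) P' ≤ PrimeSpectrum.asIdeal (R := c.R) P) :
    ∃ f : X.presheaf.stalk (c.emb P) →ₐ[k] X.presheaf.stalk (c.emb P'),
      (∀ a, f (c.toStalk P a) = c.toStalk P' a) ∧
      (letI := f.toRingHom.toAlgebra
       ∃ M : Submonoid (X.presheaf.stalk (c.emb P)), IsLocalization M (X.presheaf.stalk (c.emb P'))) := by
  letI := c.stalkAlg P
  letI := c.stalkAlg P'
  have := c.isScalarTower_stalk P
  have := c.isScalarTower_stalk P'
  have hloc := c.isLocalization_stalk P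
  have hloc' := c.isLocalization_stalk P'
  let φ : X.presheaf.stalk (c.emb P) →+* X.presheaf.stalk (c.emb P') :=
    IsLocalization.lift (M := (PrimeSpectrum.asIdeal (R := c.R) P).primeCompl)
      (g := algebraMap c.R (X.presheaf.stalk (c.emb P')))
      fun y => IsLocalization.map_units (X.presheaf.stalk (c.emb P'))
        (⟨y.1, fun hy => y.2 (hP hy)⟩ : (PrimeSpectrum.asIdeal (R := c.R) P').primeCompl)
  have hφ : ∀ a, φ (algebraMap c.R _ a) = algebraMap c.R _ a := fun a => IsLocalization.lift_eq _ a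
  refine ⟨{ toRingHom := φ, commutes' := fun a => ?_ }, hφ, ?_⟩
  · show φ (algebraMap k (X.presheaf.stalk (c.emb P)) a) = _
    rw [IsScalarTower.algebraMap_apply k c.R (X.presheaf.stalk (c.emb P)), hφ,
      IsScalarTower.algebraMap_apply k c.R (X.presheaf.stalk (c.emb P'))]
  · letI := φ.toAlgebra
    have : IsScalarTower c.R (X.presheaf.stalk (c.emb P)) (X.presheaf.stalk (c.emb P')) :=
      IsScalarTower.of_algebraMap_eq fun a => (hφ a).symm
    exact ⟨_, IsLocalization.isLocalization_of_submonoid_le _ _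
      (PrimeSpectrum.asIdeal (R := c.R) P).primeCompl (PrimeSpectrum.asIdeal (R := c.R) P').primeCompl
      (fun a ha ha' => ha (hP ha'))⟩

theorem isGeomReducedAt_of_specializes {x x' : X} (h : x' ⤳ x) (hx : Curv2.IsGeomReducedAt k X x) :
    Curv2.IsGeomReducedAt k X x' := by
  obtain ⟨c, P, rfl⟩ := exists_chart (k := k) x
  obtain ⟨P', rfl⟩ : ∃ P' : Spec (CommRingCat.of c.R), c.emb P' = x' :=
    h.mem_open c.emb.isOpenEmbedding.isOpen_range ⟨P, rfl⟩
  obtain ⟨f, -, hf⟩ := exists_generalizationMap c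
    ((PrimeSpectrum.le_iff_specializes P' P).2 (c.emb.isOpenEmbedding.isInducing.specializes_iff.1 h))
  rw [isGeomReducedAt_iff] at hx ⊢
  letI := f.toRingHom.toAlgebra
  obtain ⟨M, hM⟩ := hf
  have : IsScalarTower k (X.presheaf.stalk (c.emb P)) (X.presheaf.stalk (c.emb P')) :=
    IsScalarTower.of_algebraMap_eq fun a => (f.commutes a).symm
  exact gr_localization (X.presheaf.stalk (c.emb P)) _ M

/-- A point with reduced local ring is geometrically reduced if its maximal generalizations are. -/
theorem isGeomReducedAt_of_generic (x : X) [_root_.IsReduced (X.presheaf.stalk x)]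
    (h : ∀ η : X, η ⤳ x → (∀ y, y ⤳ η → y = η) → Curv2.IsGeomReducedAt k X η) :
    Curv2.IsGeomReducedAt k X x := by
  obtain ⟨c, P, rfl⟩ := exists_chart (k := k) x
  rw [isGeomReducedAt_iff, gr_iff]
  let ι := {q : Spec (CommRingCat.of c.R) //
    PrimeSpectrum.asIdeal (R := c.R) q ≤ PrimeSpectrum.asIdeal (R := c.R) P ∧
    PrimeSpectrum.asIdeal (R := c.R) q ∈ minimalPrimes c.R}
  have hmap := fun i : ι => exists_generalizationMap c i.2.1
  choose f hf hM using hmap
  have hgr : ∀ i : ι, _root_.IsReduced (X.presheaf.stalk (c.emb i.1) ⊗[k] AlgebraicClosure k) := fun i => by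
    refine (gr_iff _).1 ((isGeomReducedAt_iff _).1 (h _
      (((PrimeSpectrum.le_iff_specializes i.1 P).1 i.2.1).map c.emb.continuous) fun y hy => ?_))
    obtain ⟨q', rfl⟩ : ∃ q', c.emb q' = y :=
      hy.mem_open c.emb.isOpenEmbedding.isOpen_range ⟨i.1, rfl⟩
    have hq' := (PrimeSpectrum.le_iff_specializes q' i.1).2
      (c.emb.isOpenEmbedding.isInducing.specializes_iff.1 hy)
    exact congrArg c.emb (PrimeSpectrum.ext (le_antisymm hq' (i.2.2.2 ⟨q'.2, bot_le⟩ hq')))
  refine isReduced_tensor_of_jointly_injective (AlgebraicClosure k)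
    (fun i : ι => (X.presheaf.stalk (c.emb i.1) : Type u)) f (fun a ha => ?_) hgr
  letI := c.stalkAlg P
  have hloc := c.isLocalization_stalk P
  obtain ⟨⟨r, s⟩, hrs⟩ := IsLocalization.surj (PrimeSpectrum.asIdeal (R := c.R) P).primeCompl a
  have hr : ∀ i : ι, r ∈ PrimeSpectrum.asIdeal (R := c.R) i.1 := fun i => by
    letI := c.stalkAlg i.1
    have hloc' := c.isLocalization_stalk i.1
    have h0 : algebraMap c.R (X.presheaf.stalk (c.emb i.1)) r = 0 := by
      have h1 : f i (algebraMap c.R _ r) = 0 := by rw [← hrs, map_mul, ha i, zero_mul]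
      exact (hf i r).symm.trans h1
    obtain ⟨u, hu⟩ := (IsLocalization.map_eq_zero_iff
      (PrimeSpectrum.asIdeal (R := c.R) i.1).primeCompl _ r).1 h0
    exact ((PrimeSpectrum.isPrime (R := c.R) i.1).mem_or_mem (hu ▸ zero_mem _)).resolve_left u.2
  have hn : algebraMap c.R (X.presheaf.stalk (c.emb P)) r ∈ nilradical (X.presheaf.stalk (c.emb P)) := by
    rw [nilradical_eq_sInf]
    refine Ideal.mem_sInf.2 fun {J} hJ => ?_
    have hJp : J.IsPrime := hJ
    have hJP : J.comap (algebraMap c.R (X.presheaf.stalk (c.emb P))) ≤ PrimeSpectrum.asIdeal (R := c.R) P := by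
      have : IsLocalRing (X.presheaf.stalk (c.emb P)) := inferInstance
      exact (Ideal.comap_mono (IsLocalRing.le_maximalIdeal hJp.ne_top)).trans
        (IsLocalization.AtPrime.comap_maximalIdeal _ (PrimeSpectrum.asIdeal (R := c.R) P)).le
    obtain ⟨p, hp, hpJ⟩ := Ideal.exists_minimalPrimes_le
      (bot_le : (⊥ : Ideal c.R) ≤ J.comap (algebraMap c.R (X.presheaf.stalk (c.emb P))))
    exact hpJ (hr ⟨(⟨p, hp.1.1⟩ : PrimeSpectrum c.R), hpJ.trans hJP, hp⟩)
  have h0 := IsReduced.eq_zero _ hn
  rw [← hrs] at h0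
  exact (IsLocalization.map_units (X.presheaf.stalk (c.emb P)) s).mul_left_eq_zero.1 h0

theorem isGeomReducedAt_of_purelyInseparable (x : X)
    (h : ∀ (k' : Type u) [Field k'] [Algebra k k'] [FiniteDimensional k k'] [IsPurelyInseparable k k']
      (x' : Curv2.bc k X k'), Curv2.bcFst k X k' x' = x →
        _root_.IsReduced ((Curv2.bc k X k').presheaf.stalk x')) :
    Curv2.IsGeomReducedAt k X x := by
  obtain ⟨c, P, rfl⟩ := exists_chart (k := k) x
  obtain ⟨_, _, _⟩ := c.exists_stalk_algebra P
  rw [isGeomReducedAt_iff]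
  refine gr_of_purelyInseparable _ fun k' _ _ _ _ => ?_
  refine isReduced_tensor_of_atPrime (PrimeSpectrum.asIdeal (R := c.R) P) _ k' fun Q hQ hQP => ?_
  rw [← c.isReduced_stalk_bcEmb_iff k' ⟨Q, hQ⟩]
  exact h k' _ ((c.bcEmb_fst_eq_iff k' P ⟨Q, hQ⟩).2 hQP)

theorem isGeomReducedAt_of_perfect [PerfectField k] (x : X) [_root_.IsReduced (X.presheaf.stalk x)] :
    Curv2.IsGeomReducedAt k X x := by
  rw [isGeomReducedAt_iff]
  exact GrpSchLib.isGeometricallyReduced_of_isReduced (k := k) (X.presheaf.stalk x)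

theorem genericPoint_of_maximal {η : X} (h : ∀ y, y ⤳ η → y = η) :
    closure ({η} : Set X) ∈ irreducibleComponents (X : Type u) := by
  refine ⟨isIrreducible_singleton.closure, fun T hT hle z hz => ?_⟩
  have hg := hT.isGenericPoint_genericPoint_closure
  have h1 : hT.genericPoint = η :=
    h _ (hg.specializes (subset_closure (hle (subset_closure rfl))))
  rw [← h1]
  exact hg.specializes (subset_closure hz) |>.mem_closure

theorem isReduced_stalk_iso {Y Z : Scheme.{u}} (e : Y ≅ Z) (y : Y) :
    _root_.IsReduced (Y.presheaf.stalk y) ↔ _root_.IsReduced (Z.presheaf.stalk (e.hom y)) := by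
  let ε := (asIso (e.hom.stalkMap y)).commRingCatIsoToRingEquiv
  exact ⟨fun _ => isReduced_of_injective ε ε.injective,
    fun _ => isReduced_of_injective ε.symm ε.symm.injective⟩

theorem isReduced_stalk_of_flat {Y Z : Scheme.{u}} (q : Y ⟶ Z) [Flat q] (y : Y)
    [_root_.IsReduced (Y.presheaf.stalk y)] : _root_.IsReduced (Z.presheaf.stalk (q y)) := by
  letI := (q.stalkMap y).hom.toAlgebra
  haveI : Module.FaithfullyFlat (Z.presheaf.stalk (q y)) (Y.presheaf.stalk y) :=
    @Module.FaithfullyFlat.of_flat_of_isLocalHom _ _ _ _ _ _ _ (Flat.stalkMap q y) (q.toLRSHom.prop y)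
  exact isReduced_of_injective (algebraMap (Z.presheaf.stalk (q y)) (Y.presheaf.stalk y))
    (FaithfulSMul.algebraMap_injective _ _)

omit [X.Over (Spec (CommRingCat.of k))] in
/-- Geometric reducedness at a point is unchanged by extending the base field. -/
theorem isGeomReducedAt_bc_iff (f : X ⟶ Spec (CommRingCat.of k)) (k' : Type u) [Field k'] [Algebra k k']
    (x' : FBase.bc f k') :
    FBase.IsGeomReducedAt f (FBase.bcπ f k' x') ↔ FBase.IsGeomReducedAt (FBase.bcStr f k') x' := by
  constructor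
  · intro h K _ _ z hz
    let : Algebra k K := ((algebraMap k' K).comp (algebraMap k k')).toAlgebra
    have : IsScalarTower k k' K := IsScalarTower.of_algebraMap_eq fun _ => rfl
    refine (isReduced_stalk_iso (FBaseLib.bcTower f k' K) z).2 (h K _ ?_)
    rw [← hz]
    exact congr($(FBaseLib.bcTower_hom_fst f k' K).base z)
  · intro h K _ _ z hz
    obtain ⟨M, _, _, _, _, _, _, w, hw, hw'⟩ := FBaseLib.exists_compositum f K k' z x' hz
    have hred : _root_.IsReduced ((FBase.bc (FBase.bcStr f k') M).presheaf.stalk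
        ((FBaseLib.bcTower f k' M).inv w)) := h M _ hw'
    have : _root_.IsReduced ((FBase.bc f M).presheaf.stalk w) := by
      have := (isReduced_stalk_iso (FBaseLib.bcTower f k' M).symm w).2 hred
      exact this
    rw [← hw]
    exact isReduced_stalk_of_flat (FBaseLib.bcMap f K M) w

end Groth.Agent.GeomField
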