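import Groth.Agent.GeomField.Connected
import Groth.Agent.GeomField.Reduced
import Groth.Prelude.Def_Coh
import Mathlib.AlgebraicGeometry.Morphisms.Proper
import Mathlib.RingTheory.Artinian.Module
import Mathlib.FieldTheory.PurelyInseparable.Basic
import Mathlib.FieldTheory.Separable
import Mathlib.RingTheory.Spectrum.Prime.Jacobson

/-!
# Global functions on proper schemes over a field
-/

open CategoryTheory CategoryTheory.Limits AlgebraicGeometry TensorProduct

set_option backward.isDefEq.respectTransparency false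
set_option backward.isDefEq.respectTransparency.types false

namespace Groth.Agent.GeomField

universe u

attribute [local instance] Curv2.resAlgebra Curv2.stalkAlgebra

variable (k : Type u) [Field k] (X : Scheme.{u}) [X.Over (Spec (CommRingCat.of k))]

/-- The `k`-algebra structure on global functions. -/
@[reducible] noncomputable def globalAlgebra : Algebra k Γ(X, ⊤) :=
  ((X ↘ Spec (CommRingCat.of k)).appTop.hom.comp (Scheme.ΓSpecIso (CommRingCat.of k)).inv.hom).toAlgebra

attribute [local instance] globalAlgebra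

theorem finrank_HH_zero :
    Module.finrank k (Coh.HH X (Coh.structureModule X) 0) = Module.finrank k Γ(X, ⊤) := by
  let e : Coh.HH X (Coh.structureModule X) 0 ≃+ Γ(X, ⊤) :=
    Sheaf.H.equiv₀ (Coh.toAb (Coh.structureModule X)) isTerminalTop
  have he : ∀ (r : Coh.Γtop X) (x : Coh.HH X (Coh.structureModule X) 0),
      e (r • x) = (show Γ(X, ⊤) from r) * e x := by
    intro r x
    have h := (Sheaf.H.equiv₀_naturality isTerminalTop (Coh.smulAb (Coh.structureModule X) r) x).symm
    refine (show e (r • x) = _ from h).trans ?_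
    show (show Γ(X, ⊤) from Coh.resTop X (Opposite.op ⊤) r) * e x = _
    congr 1
    show (X.presheaf.map (homOfLE le_top).op).hom r = r
    rw [show (homOfLE le_top).op = 𝟙 (Opposite.op (⊤ : X.Opens)) from rfl, X.presheaf.map_id]
    rfl
  let eL : Coh.HH X (Coh.structureModule X) 0 ≃ₗ[k] Γ(X, ⊤) :=
    { e with map_smul' := fun c x => he _ x }
  exact eL.finrank_eq

theorem algebraMap_integral [UniversallyClosed (X ↘ Spec (CommRingCat.of k))] :
    Algebra.IsIntegral k Γ(X, ⊤) := by
  rw [← algebraMap_isIntegral_iff]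
  exact RingHom.IsIntegral.trans _ _
    (RingHom.isIntegral_of_surjective _ (Scheme.ΓSpecIso (CommRingCat.of k)).symm.commRingCatIsoToRingEquiv.surjective)
    (isIntegral_appTop_of_universallyClosed (X ↘ Spec (CommRingCat.of k)))

/-- Evaluation of global functions in a residue field, over `k`. -/
noncomputable def evalHom (x : X) : Γ(X, ⊤) →ₐ[k] X.residueField x :=
  { toRingHom := (X.residue x).hom.comp (X.presheaf.germ ⊤ x trivial).hom
    commutes' := fun _ => rfl }

theorem isField_globalFunctions [UniversallyClosed (X ↘ Spec (CommRingCat.of k))] [IsReduced X]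
    [ConnectedSpace X] : IsField Γ(X, ⊤) := by
  have := algebraMap_integral k X
  have : _root_.IsReduced Γ(X, ⊤) := inferInstance
  have : Nonempty (⊤ : X.Opens) := ⟨⟨Classical.arbitrary X, trivial⟩⟩
  have : Nontrivial Γ(X, ⊤) := inferInstance
  refine ⟨⟨0, 1, zero_ne_one⟩, mul_comm, fun {a} ha => ?_⟩
  let B := Algebra.adjoin k {a}
  have : Module.Finite k B :=
    Algebra.finite_adjoin_simple_of_isIntegral (Algebra.IsIntegral.isIntegral a)
  have : IsArtinianRing B := IsArtinianRing.of_finite k B
  have : _root_.IsReduced B := isReduced_of_injective B.val Subtype.val_injective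
  let a' : B := ⟨a, Algebra.self_mem_adjoin_singleton k a⟩
  -- the ideal of `a'` is generated by an idempotent
  have hsemi : IsSemisimpleRing B := IsArtinianRing.isSemisimpleRing_of_isReduced B
  obtain ⟨e, he, hspan⟩ := IsSemisimpleRing.ideal_eq_span_idempotent (Ideal.span {a'})
  have hidem : IsIdempotentElem (e : Γ(X, ⊤)) := congrArg Subtype.val he.eq
  have hcl : IsClopen (X.basicOpen (e : Γ(X, ⊤)) : Set X) := by
    refine ⟨?_, (X.basicOpen _).isOpen⟩
    rw [← isOpen_compl_iff]
    have : (X.basicOpen (e : Γ(X, ⊤)) : Set X)ᶜ = X.basicOpen (1 - (e : Γ(X, ⊤))) := by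
      ext x
      simp only [Set.mem_compl_iff, SetLike.mem_coe, Scheme.mem_basicOpen_top]
      constructor
      · intro h
        rcases IsLocalRing.isUnit_or_isUnit_one_sub_self (X.presheaf.germ ⊤ x trivial (e : Γ(X, ⊤))) with h' | h'
        · exact absurd h' h
        · rw [map_sub, map_one]; exact h'
      · intro h h'
        have h0 : X.presheaf.germ ⊤ x trivial ((e : Γ(X, ⊤)) * (1 - (e : Γ(X, ⊤)))) = 0 := by
          rw [mul_sub, mul_one, hidem.eq, sub_self, map_zero]
        rw [map_mul] at h0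
        exact (h'.mul h).ne_zero h0
    rw [this]
    exact (X.basicOpen _).isOpen
  rcases isClopen_iff.1 hcl with h | h
  · exfalso
    have h0 : (e : Γ(X, ⊤)) = 0 :=
      (basicOpen_eq_bot_iff _).1 (TopologicalSpace.Opens.ext h)
    have : a' ∈ Ideal.span {e} := hspan ▸ Ideal.mem_span_singleton_self a'
    rw [show e = 0 from Subtype.ext h0, Ideal.span_singleton_zero] at this
    exact ha (congrArg Subtype.val (Ideal.mem_bot.1 this))
  · have hu : IsUnit (e : Γ(X, ⊤)) := by
      exact X.toLocallyRingedSpace.toRingedSpace.isUnit_of_isUnit_germ ⊤ _ fun x _ =>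
        (Scheme.mem_basicOpen_top X (e : Γ(X, ⊤)) x).1 (h.ge trivial)
    have he1 : e = 1 := Subtype.ext (hu.mul_left_cancel (hidem.eq.trans (mul_one _).symm))
    have : (1 : B) ∈ Ideal.span {a'} := by rw [hspan, he1]; exact Ideal.mem_span_singleton_self 1
    obtain ⟨b, hb⟩ := Ideal.mem_span_singleton'.1 this
    exact ⟨(b : Γ(X, ⊤)), (mul_comm _ _).trans (congrArg Subtype.val hb)⟩

theorem finite_globalFunctions [UniversallyClosed (X ↘ Spec (CommRingCat.of k))]
    [LocallyOfFiniteType (X ↘ Spec (CommRingCat.of k))] [IsReduced X] [ConnectedSpace X] :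
    Module.Finite k Γ(X, ⊤) := by
  let f := X ↘ Spec (CommRingCat.of k)
  obtain ⟨_, ⟨U, hU, rfl⟩, hxU, -⟩ := X.isBasis_affineOpens.exists_subset_of_mem_open
    (Set.mem_univ (Classical.arbitrary X)) isOpen_univ
  let := ((Scheme.ΓSpecIso (.of k)).commRingCatIsoToRingEquiv.toMulEquiv.isField
    (Field.toIsField k)).toField
  let := (isField_globalFunctions k X).toField
  have : Nonempty U := ⟨⟨_, hxU⟩⟩
  have h1 : f.appTop.hom.Finite := by
    apply RingHom.finite_of_algHom_finiteType_of_isJacobsonRing (A := Γ(X, U))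
      (g := (X.presheaf.map (homOfLE le_top).op).hom)
    exact f.finiteType_appLE (isAffineOpen_top _) hU (by simp)
  exact RingHom.finite_algebraMap.1
    (h1.comp (RingHom.Finite.of_surjective _ (Scheme.ΓSpecIso (CommRingCat.of k)).symm.commRingCatIsoToRingEquiv.surjective))

omit [X.Over (Spec (CommRingCat.of k))] in
/-- A geometrically reduced field extension that is algebraic is separable. -/
theorem isSeparable_of_gr (K : Type u) [Field K] [Algebra k K] [Algebra.IsIntegral k K]
    [Algebra.IsGeometricallyReduced k K] : Algebra.IsSeparable k K := by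
  refine ⟨fun a => ?_⟩
  have hint := Algebra.IsIntegral.isIntegral (R := k) a
  have hirr := minpoly.irreducible hint
  obtain ⟨q, hq⟩ := ExpChar.exists k
  cases hq with
  | zero =>
    exact hirr.separable
  | @prime q hp hchar =>
    haveI := Fact.mk hp
    rcases Polynomial.separable_or q hirr with h | ⟨-, g, -, hg⟩
    · exact h
    exfalso
    let L := AlgebraicClosure k
    haveI : CharP L q := charP_of_injective_algebraMap (algebraMap k L).injective q
    haveI := isReduced_tensor_field (k := k) K L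
    choose c hc using fun i : ℕ => IsAlgClosed.exists_pow_nat_eq (algebraMap k L (g.coeff i)) hp.pos
    let d := g.natDegree
    haveI : CharP (K ⊗[k] L) q := charP_of_injective_ringHom
      (f := (Algebra.TensorProduct.includeRight : L →ₐ[k] K ⊗[k] L).toRingHom)
      (Algebra.TensorProduct.includeRight_injective (algebraMap k K).injective) q
    let y : K ⊗[k] L := ∑ i ∈ Finset.range (d + 1), (a ^ i) ⊗ₜ[k] c i
    have hy : y ^ q = 0 := by
      show (∑ i ∈ Finset.range (d + 1), (a ^ i) ⊗ₜ[k] c i) ^ q = 0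
      rw [sum_pow_char q]
      have h1 : ∀ i, ((a ^ i) ⊗ₜ[k] c i) ^ q = ((g.coeff i) • (a ^ q) ^ i) ⊗ₜ[k] (1 : L) := fun i => by
        rw [Algebra.TensorProduct.tmul_pow, hc, Algebra.algebraMap_eq_smul_one, ← smul_tmul, ← pow_mul, ← pow_mul,
          mul_comm i q]
      simp_rw [h1]
      rw [← TensorProduct.sum_tmul]
      have h2 : ∑ i ∈ Finset.range (d + 1), (g.coeff i) • (a ^ q) ^ i = Polynomial.aeval (a ^ q) g :=
        (Polynomial.aeval_eq_sum_range (a ^ q)).symm
      rw [h2, ← Polynomial.expand_aeval, hg, minpoly.aeval, TensorProduct.zero_tmul]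
    have hy0 : y = 0 := IsReduced.eq_zero y ⟨q, hy⟩
    have hdeg : d < (minpoly k a).natDegree := by
      rw [← hg, Polynomial.natDegree_expand]
      have h3 : 0 < (minpoly k a).natDegree := minpoly.natDegree_pos hint
      rw [← hg, Polynomial.natDegree_expand] at h3
      exact lt_mul_of_one_lt_right (Nat.pos_of_mul_pos_right h3) hp.one_lt
    -- `1, a, …, a ^ d` are linearly independent
    have hli : LinearIndependent k (fun i : Fin (d + 1) => a ^ (i : ℕ)) :=
      (linearIndependent_pow a).comp (fun i => Fin.castLE hdeg i) (Fin.castLE_injective hdeg)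
    classical
    obtain ⟨φ, hφ⟩ : ∃ φ : K →ₗ[k] k, ∀ i, i < d + 1 → φ (a ^ i) = if i = d then 1 else 0 := by
      let e : Module.Basis _ k K := Module.Basis.extend hli.linearIndepOn_id
      have hmem : ∀ i : Fin (d + 1), a ^ (i : ℕ) ∈ hli.linearIndepOn_id.extend (Set.subset_univ _) :=
        fun i => hli.linearIndepOn_id.subset_extend _ ⟨i, rfl⟩
      refine ⟨e.coord ⟨_, hmem ⟨d, d.lt_succ_self⟩⟩, fun i hi => ?_⟩
      have : a ^ i = e ⟨_, hmem ⟨i, hi⟩⟩ := (Module.Basis.extend_apply_self hli.linearIndepOn_id ⟨_, hmem ⟨i, hi⟩⟩).symm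
      rw [this, Module.Basis.coord_apply, e.repr_self_apply]
      refine if_congr ⟨fun h => ?_, fun h => Subtype.ext (by subst h; rfl)⟩ rfl rfl
      exact congrArg Fin.val (hli.injective (a₁ := ⟨i, hi⟩) (a₂ := ⟨d, d.lt_succ_self⟩) (congrArg Subtype.val h))
    have h4 := congrArg (fun z => TensorProduct.lid k L (LinearMap.rTensor L φ z)) hy0
    simp only [y, map_sum, LinearMap.rTensor_tmul, TensorProduct.lid_tmul, map_zero] at h4
    rw [Finset.sum_eq_single d (fun i hi hne => by rw [hφ i (Finset.mem_range.1 hi), if_neg hne, zero_smul])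
      (fun h => absurd (Finset.mem_range.2 d.lt_succ_self) h), hφ d d.lt_succ_self, if_pos rfl, one_smul] at h4
    have h5 : g.coeff d = 0 := (algebraMap k L).injective (by rw [map_zero, ← hc, h4, zero_pow hp.ne_zero])
    have hg0 : g = 0 := Polynomial.leadingCoeff_eq_zero.1 h5
    exact (minpoly.ne_zero hint) (by rw [← hg, hg0, map_zero])

theorem globalFunctions_separable [UniversallyClosed (X ↘ Spec (CommRingCat.of k))]
    [GeometricallyReduced (X ↘ Spec (CommRingCat.of k))] [IsReduced X] [ConnectedSpace X] :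
    Algebra.IsSeparable k Γ(X, ⊤) := by
  let x := Classical.arbitrary X
  haveI hK := isField_globalFunctions k X
  letI : Field Γ(X, ⊤) := hK.toField
  haveI := algebraMap_integral k X
  haveI : Algebra.IsGeometricallyReduced k (X.presheaf.stalk x) :=
    (isGeomReducedAt_iff x).1 ((geometricallyReduced_iff (k := k) (X := X)).1 inferInstance x)
  let g : Γ(X, ⊤) →ₐ[k] X.presheaf.stalk x :=
    { toRingHom := (X.presheaf.germ ⊤ x trivial).hom, commutes' := fun _ => rfl }
  haveI : Algebra.IsGeometricallyReduced k Γ(X, ⊤) := by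
    rw [gr_iff]
    haveI := (gr_iff (k := k) (X.presheaf.stalk x)).1 inferInstance
    exact isReduced_of_injective (Algebra.TensorProduct.map g (AlgHom.id k (AlgebraicClosure k)))
      (TensorProduct.map_injective_of_flat_flat g.toLinearMap LinearMap.id g.toRingHom.injective Function.injective_id)
  exact isSeparable_of_gr k Γ(X, ⊤)

theorem finrank_globalFunctions_eq_one [IsProper (X ↘ Spec (CommRingCat.of k))]
    [GeometricallyReduced (X ↘ Spec (CommRingCat.of k))] [GeometricallyConnected (X ↘ Spec (CommRingCat.of k))] :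
    Module.finrank k Γ(X, ⊤) = 1 := by
  let f := X ↘ Spec (CommRingCat.of k)
  haveI : IsReduced X := by
    haveI : IsReduced (Curv2.bc k X k) :=
      pullback_of_geometrically GeometricallyReduced.geometrically_isReduced k _
    haveI : Surjective (Curv2.bcFst k X k) := ⟨surjective_bcFst k⟩
    haveI : Flat (Curv2.bcFst k X k) :=
      MorphismProperty.pullback_fst _ _ (GrpSchLib.flat_spec_map_field (algebraMap k k))
    exact FBaseLib.isReduced_of_flat_surjective (Curv2.bcFst k X k)
  haveI : ConnectedSpace X := by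
    haveI : ConnectedSpace (Curv2.bc k X k) :=
      pullback_of_geometrically GeometricallyConnected.geometrically_connectedSpace k _
    haveI : Surjective (Curv2.bcFst k X k) := ⟨surjective_bcFst k⟩
    exact FBaseLib.connectedSpace_of_surjective (Curv2.bcFst k X k)
  haveI := globalFunctions_separable k X
  haveI := finite_globalFunctions k X
  letI : Field Γ(X, ⊤) := (isField_globalFunctions k X).toField
  let s := Spec.map (CommRingCat.ofHom (algebraMap k Γ(X, ⊤)))
  have hφ : X.toSpecΓ ≫ s = f := by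
    show X.toSpecΓ ≫ Spec.map ((Scheme.ΓSpecIso (CommRingCat.of k)).inv ≫ f.appTop) = f
    rw [Spec.map_comp, ← Scheme.toSpecΓ_naturality_assoc, ← SpecMap_ΓSpecIso_hom, ← Spec.map_comp,
      Iso.inv_hom_id, Spec.map_id, Category.comp_id]
  haveI : Subsingleton ↥(Spec Γ(X, ⊤)) := inferInstanceAs (Subsingleton (PrimeSpectrum Γ(X, ⊤)))
  haveI : Surjective X.toSpecΓ :=
    ⟨Function.surjective_to_subsingleton (α := X) (β := ↥(Spec Γ(X, ⊤))) _⟩
  let m : pullback f s ⟶ pullback s s := pullback.map _ _ _ _ X.toSpecΓ (𝟙 _) (𝟙 _) (by simp [hφ]) (by simp)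
  haveI : Surjective m := MorphismProperty.pullbackMap (P := @Surjective) (f' := s) (g' := s)
    (inferInstance : Surjective X.toSpecΓ) (inferInstance : Surjective (𝟙 _)) hφ.symm (Category.id_comp _).symm
  haveI : ConnectedSpace ↥(pullback f s) :=
    pullback_of_geometrically GeometricallyConnected.geometrically_connectedSpace Γ(X, ⊤) _
  haveI := FBaseLib.connectedSpace_of_surjective m
  haveI : ConnectedSpace ↥(Spec (CommRingCat.of (Γ(X, ⊤) ⊗[k] Γ(X, ⊤)))) :=
    (pullbackSpecIso k Γ(X, ⊤) Γ(X, ⊤)).hom.homeomorph.surjective.connectedSpace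
      (pullbackSpecIso k Γ(X, ⊤) Γ(X, ⊤)).hom.homeomorph.continuous
  haveI : IsArtinianRing (Γ(X, ⊤) ⊗[k] Γ(X, ⊤)) := IsArtinianRing.of_finite k _
  haveI : ConnectedSpace (PrimeSpectrum (Γ(X, ⊤) ⊗[k] Γ(X, ⊤))) := ‹ConnectedSpace ↥(Spec (CommRingCat.of (Γ(X, ⊤) ⊗[k] Γ(X, ⊤))))›
  haveI : Subsingleton (PrimeSpectrum (Γ(X, ⊤) ⊗[k] Γ(X, ⊤))) :=
    ⟨fun P Q => by
      have h : IsClopen ({P} : Set (PrimeSpectrum (Γ(X, ⊤) ⊗[k] Γ(X, ⊤)))) := isClopen_discrete _
      exact ((h.eq_univ (Set.singleton_nonempty P)).ge (Set.mem_univ Q)).symm⟩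
  haveI : IrreducibleSpace (PrimeSpectrum (Γ(X, ⊤) ⊗[k] Γ(X, ⊤))) := by
    haveI : Nonempty (PrimeSpectrum (Γ(X, ⊤) ⊗[k] Γ(X, ⊤))) := ‹ConnectedSpace (PrimeSpectrum _)›.toNonempty
    haveI : PreirreducibleSpace (PrimeSpectrum (Γ(X, ⊤) ⊗[k] Γ(X, ⊤))) :=
      ⟨(Set.subsingleton_of_subsingleton (s := (Set.univ : Set (PrimeSpectrum (Γ(X, ⊤) ⊗[k] Γ(X, ⊤)))))).isPreirreducible⟩
    constructor
    infer_instance
  exact mem_range_of_irreducibleSpace Γ(X, ⊤) Γ(X, ⊤) (AlgHom.id k _) Γ(X, ⊤) (AlgHom.id k _) inferInstance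

end Groth.Agent.GeomField
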