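import Groth.Agent.GeomField.Irreducible
import Mathlib.AlgebraicGeometry.Geometrically.Connected
import Mathlib.AlgebraicGeometry.Morphisms.Integral

/-!
# Geometric connectedness
-/

open CategoryTheory CategoryTheory.Limits AlgebraicGeometry TensorProduct

set_option backward.isDefEq.respectTransparency false
set_option backward.isDefEq.respectTransparency.types false

namespace Groth.Agent.GeomField

universe u

attribute [local instance] Curv2.resAlgebra

variable {k : Type u} [Field k] {X : Scheme.{u}} [X.Over (Spec (CommRingCat.of k))]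

theorem isConnected_preimage [IsSepClosed k] (K : Type u) [Field K] [Algebra k K] {Z : Set X}
    (hZ : _root_.IsConnected Z) : _root_.IsConnected (Curv2.bcFst k X K ⁻¹' Z) := by
  let p := Curv2.bcFst k X K
  let q : ↥(p ⁻¹' Z) → ↥Z := Set.restrictPreimage Z p
  have hopen : IsOpenMap q := (isOpenMap_bcFst K).restrictPreimage Z
  have hsurj : Function.Surjective q := Set.restrictPreimage_surjective Z (surjective_bcFst K)
  have hq : Topology.IsQuotientMap q :=
    hopen.isQuotientMap (p.continuous.restrictPreimage) hsurj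
  haveI : ConnectedSpace Z := isConnected_iff_connectedSpace.mp hZ
  have hfib : ∀ z : Z, _root_.IsConnected (q ⁻¹' {z}) := fun z => by
    have he : q ⁻¹' {z} = Subtype.val ⁻¹' (p ⁻¹' {z.1}) := by
      ext w; simp [q, Subtype.ext_iff]
    have hirr : IsIrreducible (Subtype.val ⁻¹' (p ⁻¹' {z.1}) : Set (p ⁻¹' Z)) := by
      rw [← isIrreducible_image_iff Topology.IsInducing.subtypeVal, Subtype.image_preimage_coe,
        Set.inter_eq_right.2 (Set.preimage_mono (Set.singleton_subset_iff.2 z.2))]
      exact isIrreducible_fibre (k := k) K z.1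
    rw [he]
    exact hirr.isConnected
  have : ConnectedSpace (p ⁻¹' Z) := by
    rw [connectedSpace_iff_univ, ← Set.preimage_univ (f := q)]
    exact hq.isCoinducing.isConnected_preimage_of_isClosed hfib isClosed_univ isConnected_univ
  exact isConnected_iff_connectedSpace.mpr this

theorem connectedSpace_bc_of_isSepClosed [IsSepClosed k] [ConnectedSpace X] (K : Type u) [Field K]
    [Algebra k K] : ConnectedSpace (Curv2.bc k X K) :=
  connectedSpace_iff_univ.2 (isConnected_preimage (k := k) K (isConnected_univ (α := X)))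

theorem connectedComponentsMap_bijective [IsSepClosed k] (K : Type u) [Field K] [Algebra k K] :
    Function.Bijective (Continuous.connectedComponentsMap (Curv2.bcFst k X K).continuous) := by
  constructor
  · intro a b hab
    obtain ⟨a, rfl⟩ := ConnectedComponents.surjective_coe a
    obtain ⟨b, rfl⟩ := ConnectedComponents.surjective_coe b
    have h : connectedComponent (Curv2.bcFst k X K a) = connectedComponent (Curv2.bcFst k X K b) :=
      ConnectedComponents.coe_eq_coe.1 hab
    refine ConnectedComponents.coe_eq_coe.2 (connectedComponent_eq ?_)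
    refine (isConnected_preimage (k := k) K (isConnected_connectedComponent (x := Curv2.bcFst k X K a))).isPreconnected.subset_connectedComponent
      mem_connectedComponent ?_
    show Curv2.bcFst k X K b ∈ connectedComponent (Curv2.bcFst k X K a)
    rw [h]; exact mem_connectedComponent
  · intro c
    obtain ⟨x, rfl⟩ := ConnectedComponents.surjective_coe c
    obtain ⟨y, rfl⟩ := surjective_bcFst (k := k) (X := X) K x
    exact ⟨y, rfl⟩

theorem geometricallyConnected_of_separableClosure (h : ConnectedSpace (Curv2.bc k X (SeparableClosure k))) :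
    GeometricallyConnected (X ↘ Spec (CommRingCat.of k)) := by
  let k' := SeparableClosure k
  have : Surjective (Spec.map (CommRingCat.ofHom (algebraMap k k'))) :=
    GrpSchLib.surjective_spec_map_field _
  refine ⟨FBaseLib.geometrically_of_surjective (P := (ConnectedSpace ·))
    (fun {Z W} q _ _ h => @FBaseLib.connectedSpace_of_surjective Z W q inferInstance h) _
    (Spec.map (CommRingCat.ofHom (algebraMap k k'))) ?_⟩
  rw [geometrically_iff_of_commRing_of_isClosedUnderIsomorphisms]
  intro L _ _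
  let : (Curv2.bc k X k').Over (Spec (CommRingCat.of k')) := ⟨Curv2.bcSnd k X k'⟩
  exact connectedSpace_bc_of_isSepClosed (k := k') (X := Curv2.bc k X k') L

theorem isClosedMap_bcFst (K : Type u) [Field K] [Algebra k K] [Algebra.IsAlgebraic k K] :
    IsClosedMap (Curv2.bcFst k X K) := by
  have h1 : IsIntegralHom (Spec.map (CommRingCat.ofHom (algebraMap k K))) :=
    IsIntegralHom.SpecMap_iff.2 (algebraMap_isIntegral_iff.2 inferInstance)
  have : IsIntegralHom (Curv2.bcFst k X K) := MorphismProperty.pullback_fst _ _ h1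
  exact (Curv2.bcFst k X K).isClosedMap

/-- A nonempty clopen subset of `X_K` surjects onto a connected `X`, for `K` algebraic. -/
theorem image_clopen_eq_univ [ConnectedSpace X] {K : Type u} [Field K] [Algebra k K]
    [Algebra.IsAlgebraic k K] {U : Set (Curv2.bc k X K)} (hU : IsClopen U) (hne : U.Nonempty) :
    Curv2.bcFst k X K '' U = Set.univ :=
  IsClopen.eq_univ ⟨isClosedMap_bcFst K U hU.1, isOpenMap_bcFst K U hU.2⟩ (hne.image _)

theorem connectedSpace_bc_of_clopen [Nonempty X] {K : Type u} [Field K] [Algebra k K]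
    (h : ∀ U : Set (Curv2.bc k X K), IsClopen U → U.Nonempty → Uᶜ.Nonempty → False) :
    ConnectedSpace (Curv2.bc k X K) := by
  rw [connectedSpace_iff_clopen]
  refine ⟨?_, fun U hU => ?_⟩
  · obtain ⟨y, -⟩ := surjective_bcFst (k := k) (X := X) K (Classical.arbitrary X)
    exact ⟨y⟩
  · by_contra hne
    push Not at hne
    exact h U hU hne.1 (Set.nonempty_compl.2 hne.2)

theorem geometricallyConnected_of_point [ConnectedSpace X] (x : X)
    (hx : ∀ a : X.residueField x, (Curv2.resMap k X x).IsIntegralElem a → a ∈ (Curv2.resMap k X x).range) :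
    GeometricallyConnected (X ↘ Spec (CommRingCat.of k)) := by
  refine geometricallyConnected_of_separableClosure (connectedSpace_bc_of_clopen fun U hU hne hne' => ?_)
  obtain ⟨u, hu, hux⟩ := (image_clopen_eq_univ hU hne).ge (Set.mem_univ x)
  obtain ⟨v, hv, hvx⟩ := (image_clopen_eq_univ hU.compl hne').ge (Set.mem_univ x)
  obtain ⟨F, hF, hFd⟩ := exists_open_descend hU.2 hu
  obtain ⟨V, hV, huV, hVU⟩ := hFd F le_rfl
  let q := FBaseLib.bcMap (X ↘ Spec (CommRingCat.of k)) F (SeparableClosure k)
  have hq : ∀ z, Curv2.bcFst k X F (q z) = Curv2.bcFst k X (SeparableClosure k) z :=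
    fun z => congr($(FBaseLib.bcMap_fst (X ↘ Spec (CommRingCat.of k)) F (SeparableClosure k)).base z)
  have := isDomain_tensor_of_separable F (X.residueField x) (fun a ha => hx a ha.isIntegral)
  have hF' : IsField (X.residueField x ⊗[k] F) :=
    isField_of_isIntegral_of_isField' (R := X.residueField x) (S := X.residueField x ⊗[k] F) (Field.toIsField _)
  have : Subsingleton (PrimeSpectrum (X.residueField x ⊗[k] F)) := by
    have hbot : ∀ P : PrimeSpectrum (X.residueField x ⊗[k] F), P.asIdeal = ⊥ := fun P => by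
      refine eq_bot_iff.2 fun a ha => ?_
      by_contra h0
      obtain ⟨b, hb⟩ := hF'.mul_inv_cancel h0
      exact P.2.ne_top (P.asIdeal.eq_top_of_isUnit_mem ha (isUnit_iff_exists.2 ⟨b, hb, (mul_comm b a).trans hb⟩))
    exact ⟨fun P Q => PrimeSpectrum.ext ((hbot P).trans (hbot Q).symm)⟩
  have hsub : (Curv2.bcFst k X F ⁻¹' {x}).Subsingleton := by
    let ι := X.fromSpecResidueField x
    have hr : Curv2.bcFst k X F ⁻¹' {x} = Set.range (pullback.snd ι (Curv2.bcFst k X F)) := by
      rw [Scheme.Pullback.range_snd, Scheme.range_fromSpecResidueField]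
    have : Subsingleton ↥(pullback ι (Curv2.bcFst k X F)) := @Equiv.subsingleton _ _ (fibreIso F x).hom.homeomorph.toEquiv
      (inferInstanceAs (Subsingleton (PrimeSpectrum (X.residueField x ⊗[k] F))))
    rw [hr]
    exact Set.subsingleton_range _
  have h2 : q v = q u := hsub (show Curv2.bcFst k X F (q v) ∈ ({x} : Set X) by rw [hq]; exact hvx)
    (show Curv2.bcFst k X F (q u) ∈ ({x} : Set X) by rw [hq]; exact hux)
  exact hv (hVU (show q v ∈ V from h2 ▸ huV))

/-- Two points of `X_K` over the same point of `X_F` are conjugate over `F`. -/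
theorem exists_galAct_eq_over {K : Type u} [Field K] [Algebra k K] [Normal k K] (F : IntermediateField k K)
    (y y' : Curv2.bc k X K)
    (h : FBaseLib.bcMap (X ↘ Spec (CommRingCat.of k)) F K y = FBaseLib.bcMap (X ↘ Spec (CommRingCat.of k)) F K y') :
    ∃ σ : K ≃ₐ[k] K, (∀ r : F, σ r = r) ∧ Curv2.galAct k X K σ y = y' := by
  let f := X ↘ Spec (CommRingCat.of k)
  let q : Curv2.bc k X K ⟶ Curv2.bc k X F := FBaseLib.bcMap f F K
  have hqf : q ≫ Curv2.bcFst k X F = Curv2.bcFst k X K := FBaseLib.bcMap_fst f F K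
  have hqs : q ≫ Curv2.bcSnd k X F = Curv2.bcSnd k X K ≫ Spec.map (CommRingCat.ofHom (algebraMap F K)) :=
    FBaseLib.bcMap_snd f F K
  obtain ⟨z₀, hz1, hz2⟩ := Scheme.Pullback.exists_preimage_pullback (f := q) (g := q) y y' h
  let P := pullback q q
  let ζ := P.fromSpecResidueField z₀
  obtain ⟨a, ha⟩ := Spec.map_surjective (ζ ≫ pullback.fst _ _ ≫ Curv2.bcSnd k X K)
  obtain ⟨b, hb⟩ := Spec.map_surjective (ζ ≫ pullback.snd _ _ ≫ Curv2.bcSnd k X K)
  let M : Type u := P.residueField z₀
  letI : Algebra K M := a.hom.toAlgebra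
  letI : Algebra F M := (a.hom.comp (algebraMap F K)).toAlgebra
  haveI : IsScalarTower F K M := IsScalarTower.of_algebraMap_eq fun _ => rfl
  have hab : CommRingCat.ofHom (algebraMap F K) ≫ b = CommRingCat.ofHom (algebraMap F K) ≫ a := by
    apply Spec.map_injective
    rw [Spec.map_comp, Spec.map_comp, ha, hb]
    simp only [Category.assoc, ← hqs]
    rw [← pullback.condition_assoc]
  let bA : K →ₐ[F] M := { toRingHom := b.hom, commutes' := fun r => congr($(hab).hom r) }
  let τ : K ≃ₐ[F] K := Normal.algHomEquivAut F M K bA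
  have hσ : ∀ r, a.hom (τ r) = b.hom r := fun r => by
    have := (Normal.algHomEquivAut F M K).symm_apply_apply bA
    exact congr($this r)
  refine ⟨τ.restrictScalars k, fun r => τ.commutes r, ?_⟩
  have hcomp : (ζ ≫ pullback.fst _ _) ≫ Curv2.galAct k X K (τ.restrictScalars k) = ζ ≫ pullback.snd _ _ := by
    apply pullback.hom_ext
    · rw [Category.assoc, Curv2.galAct, pullback.lift_fst, Category.comp_id]
      simp only [Category.assoc]
      show ζ ≫ pullback.fst q q ≫ Curv2.bcFst k X K = ζ ≫ pullback.snd q q ≫ Curv2.bcFst k X K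
      rw [← hqf, ← pullback.condition_assoc]
    · rw [Category.assoc, Curv2.galAct, pullback.lift_snd]
      have h1 : ζ ≫ pullback.fst q q ≫ Curv2.bcSnd k X K = Spec.map a := ha.symm
      have h2 : ζ ≫ pullback.snd q q ≫ Curv2.bcSnd k X K = Spec.map b := hb.symm
      simp only [Category.assoc]
      rw [reassoc_of% h1, h2, ← Spec.map_comp]
      congr 1
      ext r
      exact hσ r
  rw [← hz1, ← hz2]
  have h3 := congr($(hcomp).base (IsLocalRing.closedPoint M))
  simp only [Scheme.Hom.comp_base, TopCat.hom_comp, ContinuousMap.comp_apply] at h3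
  erw [Scheme.fromSpecResidueField_apply] at h3
  exact h3

theorem galAct_bcMap {K : Type u} [Field K] [Algebra k K] (F : IntermediateField k K) (σ : K ≃ₐ[k] K)
    (hσ : ∀ r : F, σ r = r) (y : Curv2.bc k X K) :
    FBaseLib.bcMap (X ↘ Spec (CommRingCat.of k)) F K (Curv2.galAct k X K σ y) =
      FBaseLib.bcMap (X ↘ Spec (CommRingCat.of k)) F K y := by
  let f := X ↘ Spec (CommRingCat.of k)
  let q : Curv2.bc k X K ⟶ Curv2.bc k X F := FBaseLib.bcMap f F K
  have hqf : q ≫ Curv2.bcFst k X F = Curv2.bcFst k X K := FBaseLib.bcMap_fst f F K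
  have hqs : q ≫ Curv2.bcSnd k X F = Curv2.bcSnd k X K ≫ Spec.map (CommRingCat.ofHom (algebraMap F K)) :=
    FBaseLib.bcMap_snd f F K
  have h : Curv2.galAct k X K σ ≫ q = q := by
    apply pullback.hom_ext
    · rw [Category.assoc, hqf, Curv2.galAct, pullback.lift_fst, Category.comp_id]
    · rw [Category.assoc, hqs, Curv2.galAct, pullback.lift_snd_assoc]
      simp only [Category.assoc]
      rw [← Spec.map_comp]
      congr 2
      ext r
      exact hσ r
  exact congr($(h).base y)

theorem geometricallyConnected_of_finiteSeparable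
    (h : ∀ (k' : Type u) [Field k'] [Algebra k k'] [FiniteDimensional k k'] [Algebra.IsSeparable k k'],
      ConnectedSpace (Curv2.bc k X k')) : GeometricallyConnected (X ↘ Spec (CommRingCat.of k)) := by
  let K := SeparableClosure k
  have : Surjective (Curv2.bcFst k X k) := ⟨surjective_bcFst k⟩
  have := h k
  have : ConnectedSpace X := FBaseLib.connectedSpace_of_surjective (Curv2.bcFst k X k)
  have : IsGalois k K := inferInstance
  refine geometricallyConnected_of_separableClosure (connectedSpace_bc_of_clopen fun U hU hne hne' => ?_)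
  obtain ⟨u, hu⟩ := hne
  obtain ⟨c, P, hP⟩ := exists_chart (k := k) (Curv2.bcFst k X K u)
  obtain ⟨e, -, hUe⟩ := PrimeSpectrum.exists_idempotent_basicOpen_eq_of_isClopen
    (s := c.bcEmb K ⁻¹' U) (hU.preimage (c.bcEmb K).continuous)
  obtain ⟨F, hF, hlift⟩ := exists_finite_lift e
  obtain ⟨y, hy⟩ := hlift F le_rfl
  let q := FBaseLib.bcMap (X ↘ Spec (CommRingCat.of k)) F K
  let ψ := (Algebra.TensorProduct.map (AlgHom.id k c.R) (IsScalarTower.toAlgHom k F K)).toRingHom
  have hcomm : ∀ Q : Spec (CommRingCat.of (c.R ⊗[k] K)),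
      q (c.bcEmb K Q) = c.bcEmb F (PrimeSpectrum.comap ψ Q) := fun Q => congr($(c.bcEmb_bcMap K F).base Q)
  have hmem : ∀ Q : Spec (CommRingCat.of (c.R ⊗[k] K)),
      c.bcEmb K Q ∈ U ↔ PrimeSpectrum.comap ψ Q ∈ (PrimeSpectrum.basicOpen y : Set (PrimeSpectrum (c.R ⊗[k] F))) := by
    intro Q
    show Q ∈ c.bcEmb K ⁻¹' U ↔ _
    rw [hUe, ← hy]
    rfl
  have hinv : ∀ σ : K ≃ₐ[k] K, (∀ r : F, σ r = r) → ∀ z ∈ U, Curv2.galAct k X K σ z ∈ U := by
    intro σ hσ z hz
    by_contra hz'
    obtain ⟨w, ⟨hwU, hwU'⟩, hwx⟩ := (image_clopen_eq_univ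
      (hU.inter (hU.compl.preimage (Curv2.galAct k X K σ).continuous)) ⟨z, hz, hz'⟩).ge
      (Set.mem_univ (Curv2.bcFst k X K u))
    obtain ⟨Q, hQ⟩ := c.exists_bcEmb_eq K P w (hwx.trans hP.symm)
    obtain ⟨Q', hQ'⟩ := c.exists_bcEmb_eq K P (Curv2.galAct k X K σ w)
      ((bcFst_galAct σ w).trans (hwx.trans hP.symm))
    have h1 : q (Curv2.galAct k X K σ w) = q w := galAct_bcMap F σ hσ w
    rw [← hQ', ← hQ, hcomm, hcomm] at h1
    have h2 := (c.bcEmb F).isOpenEmbedding.injective h1
    refine hwU' ?_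
    rw [← hQ', hmem, h2, ← hmem, hQ]
    exact hwU
  have := h F
  have hopen : IsOpenMap q := q.isOpenMap
  have hdisj : Disjoint (q '' U) (q '' Uᶜ) := by
    rw [Set.disjoint_left]
    rintro _ ⟨a, ha, rfl⟩ ⟨b, hb, hba⟩
    obtain ⟨σ, hσ, hσab⟩ := exists_galAct_eq_over F a b hba.symm
    exact hb (hσab ▸ hinv σ hσ a ha)
  obtain ⟨b, hb⟩ := hne'
  obtain ⟨z, -, hz1, hz2⟩ := isPreconnected_univ (α := Curv2.bc k X F) (q '' U) (q '' Uᶜ)
    (hopen U hU.2) (hopen Uᶜ hU.compl.2) (fun w _ => by
      obtain ⟨v, rfl⟩ := q.surjective w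
      by_cases hv : v ∈ U
      · exact Or.inl ⟨v, hv, rfl⟩
      · exact Or.inr ⟨v, hv, rfl⟩)
    ⟨_, trivial, ⟨u, hu, rfl⟩⟩ ⟨_, trivial, ⟨b, hb, rfl⟩⟩
  exact Set.disjoint_left.1 hdisj hz1 hz2

theorem connectedSpace_bc_of_map {K : Type u} [Field K] [Algebra k K] [Algebra.IsAlgebraic k K]
    {T : Scheme.{u}} [T.Over (Spec (CommRingCat.of k))] (f : T ⟶ X) [f.IsOver (Spec (CommRingCat.of k))]
    [ConnectedSpace (Curv2.bc k T K)] [ConnectedSpace X] : ConnectedSpace (Curv2.bc k X K) := by
  let fK : Curv2.bc k T K ⟶ Curv2.bc k X K :=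
    pullback.map _ _ _ _ f (𝟙 _) (𝟙 _) (by simp) (by simp)
  refine connectedSpace_bc_of_clopen fun U hU hne hne' => ?_
  wlog hsub : Set.range fK ⊆ U generalizing U
  · refine this Uᶜ hU.compl hne' (by rwa [compl_compl]) ?_
    exact ((isPreconnected_univ.image fK fK.continuous.continuousOn).subset_isClopen hU.compl
      (by rw [Set.image_univ]; obtain ⟨y, hy, hy'⟩ := Set.not_subset.1 hsub; exact ⟨y, hy, hy'⟩)).trans' (by rw [Set.image_univ])
  obtain ⟨w⟩ := (inferInstance : Nonempty (Curv2.bc k T K))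
  let t := Curv2.bcFst k T K w
  obtain ⟨z, hz, hzx⟩ := (image_clopen_eq_univ hU.compl hne').ge (Set.mem_univ (f t))
  obtain ⟨s, hs1, hs2⟩ := Scheme.Pullback.exists_preimage_pullback (f := f) (g := Curv2.bcFst k X K) t z hzx.symm
  let l : pullback f (Curv2.bcFst k X K) ⟶ Curv2.bc k T K :=
    pullback.lift (pullback.fst _ _) (pullback.snd _ _ ≫ Curv2.bcSnd k X K) (by
      rw [← comp_over f (Spec (CommRingCat.of k)), pullback.condition_assoc, Category.assoc]
      congr 1
      exact pullback.condition)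
  have hl : l ≫ fK = pullback.snd f (Curv2.bcFst k X K) := by
    apply pullback.hom_ext
    · simp [l, fK, pullback.condition]
    · simp [l, fK]
  exact hz (hsub ⟨l s, (congr($(hl).base s)).trans hs2⟩)

end Groth.Agent.GeomField
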