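import Groth.Agent.GeomField.Components
import Groth.Agent.GeomField.Connected
import Mathlib.RingTheory.Ideal.MinimalPrime.Noetherian

/-!
# Galois orbits of components, and transfer from the separable closure
-/

open CategoryTheory CategoryTheory.Limits AlgebraicGeometry TensorProduct

set_option backward.isDefEq.respectTransparency false
set_option backward.isDefEq.respectTransparency.types false

namespace Groth.Agent.GeomField

universe u

attribute [local instance] Curv2.resAlgebra

variable {k : Type u} [Field k] {X : Scheme.{u}} [X.Over (Spec (CommRingCat.of k))]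

theorem galAct_symm {K : Type u} [Field K] [Algebra k K] (σ : K ≃ₐ[k] K) :
    Curv2.galAct k X K σ.symm ≫ Curv2.galAct k X K σ = 𝟙 _ := by
  apply pullback.hom_ext
  · simp only [Curv2.galAct, Category.assoc, pullback.lift_fst, Category.comp_id, Category.id_comp]
  · simp only [Curv2.galAct, Category.assoc, pullback.lift_snd, Category.id_comp, pullback.lift_snd_assoc,
      ← Spec.map_comp]
    rw [show CommRingCat.ofHom (σ : K →ₐ[k] K).toRingHom ≫ CommRingCat.ofHom (σ.symm : K →ₐ[k] K).toRingHom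
        = 𝟙 _ from by ext a; exact σ.symm_apply_apply a, Spec.map_id, Category.comp_id]

/-- The action of an automorphism, as a homeomorphism. -/
noncomputable def galHomeo {K : Type u} [Field K] [Algebra k K] (σ : K ≃ₐ[k] K) :
    Curv2.bc k X K ≃ₜ Curv2.bc k X K where
  toFun := Curv2.galAct k X K σ
  invFun := Curv2.galAct k X K σ.symm
  left_inv y := by
    have h := galAct_symm (X := X) σ.symm
    rw [σ.symm_symm] at h
    exact congr($(h).base y)
  right_inv y := congr($(galAct_symm (X := X) σ).base y)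
  continuous_toFun := (Curv2.galAct k X K σ).continuous
  continuous_invFun := (Curv2.galAct k X K σ.symm).continuous

theorem galAct_image_closure {K : Type u} [Field K] [Algebra k K] (σ : K ≃ₐ[k] K) (y : Curv2.bc k X K) :
    Curv2.galAct k X K σ '' closure {y} = closure {Curv2.galAct k X K σ y} :=
  ((galHomeo σ).image_closure {y}).trans (by rw [Set.image_singleton]; rfl)

theorem bcFst_image_galAct {K : Type u} [Field K] [Algebra k K] (σ : K ≃ₐ[k] K) (S : Set (Curv2.bc k X K)) :
    Curv2.bcFst k X K '' (Curv2.galAct k X K σ '' S) = Curv2.bcFst k X K '' S := by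
  rw [Set.image_image]
  exact Set.image_congr fun y _ => bcFst_galAct σ y

theorem isGenericPoint_image {K : Type u} [Field K] [Algebra k K] [Algebra.IsAlgebraic k K]
    {η : Curv2.bc k X K} {Z : Set (Curv2.bc k X K)} (h : IsGenericPoint η Z) :
    IsGenericPoint (Curv2.bcFst k X K η) (Curv2.bcFst k X K '' Z) := by
  show closure _ = _
  rw [← h.def, ← (isClosedMap_bcFst K).closure_image_eq_of_continuous (Curv2.bcFst k X K).continuous,
    Set.image_singleton]

theorem image_eq_iff_conjugate (K : Type u) [Field K] [Algebra k K] [Algebra.IsAlgebraic k K] [Normal k K]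
    {Z' Z'' : Set (Curv2.bc k X K)} (hZ' : Z' ∈ irreducibleComponents (Curv2.bc k X K : Type u))
    (hZ'' : Z'' ∈ irreducibleComponents (Curv2.bc k X K : Type u)) :
    Curv2.bcFst k X K '' Z' = Curv2.bcFst k X K '' Z'' ↔
      ∃ σ : K ≃ₐ[k] K, Curv2.galAct k X K σ '' Z' = Z'' := by
  constructor
  · intro h
    obtain ⟨η', hη', -⟩ := maximal_of_component hZ'
    obtain ⟨η'', hη'', -⟩ := maximal_of_component hZ''
    have h1 : Curv2.bcFst k X K η' = Curv2.bcFst k X K η'' :=
      (isGenericPoint_image hη').eq (h ▸ isGenericPoint_image hη'')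
    obtain ⟨σ, hσ⟩ := exists_galAct_eq η' η'' h1
    exact ⟨σ, by rw [← hη'.def, ← hη''.def, galAct_image_closure, hσ]⟩
  · rintro ⟨σ, rfl⟩
    exact (bcFst_image_galAct σ Z').symm

theorem components_over_finite [LocallyOfFiniteType (X ↘ Spec (CommRingCat.of k))] (K : Type u) [Field K]
    [Algebra k K] {T : Set X} (hT : T ∈ irreducibleComponents (X : Type u)) :
    {T' : Set (Curv2.bc k X K) | T' ∈ irreducibleComponents (Curv2.bc k X K : Type u) ∧
      Curv2.bcFst k X K '' T' ⊆ T}.Finite := by
  obtain ⟨ξ, hξ, hmax⟩ := maximal_of_component hT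
  obtain ⟨c, P, hP⟩ := exists_chart (k := k) ξ
  have hft : Algebra.FiniteType k c.R := by
    have h1 : LocallyOfFiniteType (Spec.map (CommRingCat.ofHom (algebraMap k c.R))) := by
      rw [← c.over_eq]; infer_instance
    rw [HasRingHomProperty.Spec_iff (P := @LocallyOfFiniteType)] at h1
    exact RingHom.finiteType_algebraMap.1 h1
  have : IsNoetherianRing (c.R ⊗[k] K) := by
    have : Algebra.FiniteType K (K ⊗[k] c.R) := inferInstance
    have := Algebra.FiniteType.isNoetherianRing K (K ⊗[k] c.R)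
    exact isNoetherianRing_of_ringEquiv (K ⊗[k] c.R) (Algebra.TensorProduct.comm k K c.R).toRingEquiv
  have hfin : {Q : PrimeSpectrum (c.R ⊗[k] K) | Q.asIdeal ∈ minimalPrimes (c.R ⊗[k] K)}.Finite :=
    (minimalPrimes.finite_of_isNoetherianRing (c.R ⊗[k] K)).preimage fun a _ b _ h => PrimeSpectrum.ext h
  refine (hfin.image fun Q => closure {c.bcEmb K Q}).subset ?_
  rintro T' ⟨hT', hsub⟩
  obtain ⟨η, hη, hηmax⟩ := maximal_of_component hT'
  have h1 : Curv2.bcFst k X K η = ξ :=
    (bcFst_maximal K hηmax ξ (hξ.specializes (hsub ⟨η, hη.mem, rfl⟩))).symm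
  obtain ⟨Q, rfl⟩ := c.exists_bcEmb_eq K P η (h1.trans hP.symm)
  refine ⟨Q, ⟨⟨Q.2, bot_le⟩, ?_⟩, hη.def⟩
  intro q hq hle
  let q' : PrimeSpectrum (c.R ⊗[k] K) := ⟨q, hq.1⟩
  have hle' : (q' : Spec (CommRingCat.of (c.R ⊗[k] K))) ⤳ Q := (PrimeSpectrum.le_iff_specializes q' Q).1 hle
  have h2 := hηmax _ (hle'.map (c.bcEmb K).continuous)
  rw [← (c.bcEmb K).isOpenEmbedding.injective h2]

theorem isConnected_bcMap_preimage (L : Type u) [Field L] [Algebra k L] [IsSepClosed L] (M : Type u) [Field M]
    [Algebra k M] [Algebra L M] [IsScalarTower k L M] {S : Set (Curv2.bc k X L)} (hS : _root_.IsConnected S) :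
    _root_.IsConnected (FBaseLib.bcMap (X ↘ Spec (CommRingCat.of k)) L M ⁻¹' S) := by
  let : (Curv2.bc k X L).Over (Spec (CommRingCat.of L)) := ⟨Curv2.bcSnd k X L⟩
  have h := isConnected_preimage (k := L) (X := Curv2.bc k X L) M hS
  let e := (FBaseLib.bcTower (X ↘ Spec (CommRingCat.of k)) L M).symm.hom.homeomorph
  exact (e.isConnected_preimage (s := Curv2.bcFst L (Curv2.bc k X L) M ⁻¹' S)).2 h

theorem isIrreducible_bcMap_preimage (L : Type u) [Field L] [Algebra k L] [IsSepClosed L] (M : Type u) [Field M]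
    [Algebra k M] [Algebra L M] [IsScalarTower k L M] {S : Set (Curv2.bc k X L)} (hS : IsIrreducible S) :
    IsIrreducible (FBaseLib.bcMap (X ↘ Spec (CommRingCat.of k)) L M ⁻¹' S) := by
  let : (Curv2.bc k X L).Over (Spec (CommRingCat.of L)) := ⟨Curv2.bcSnd k X L⟩
  let p := Curv2.bcFst L (Curv2.bc k X L) M
  have h : IsIrreducible (p ⁻¹' S) := by
    refine hS.preimage_of_isPreirreducible_fiber _ (isOpenMap_bcFst (k := L) M)
      (fun x => (isIrreducible_fibre (k := L) M x).isPreirreducible) ?_
    rw [Set.range_eq_univ.mpr (surjective_bcFst (k := L) M), Set.inter_univ]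
    exact hS.nonempty
  let e := (FBaseLib.bcTower (X ↘ Spec (CommRingCat.of k)) L M).symm.hom.homeomorph
  have h1 : IsIrreducible (e.symm '' (p ⁻¹' S)) := h.image _ e.symm.continuous.continuousOn
  rw [Homeomorph.image_symm] at h1
  exact h1

theorem preimage_transfer (L : Type u) [Field L] [Algebra k L] [Algebra.IsAlgebraic k L] (K : Type u) [Field K] [Algebra k K] (T : Set X) :
    ∃ (M : Type u) (_ : Field M) (_ : Algebra k M) (_ : Algebra L M) (_ : IsScalarTower k L M)
      (g : Curv2.bc k X M ⟶ Curv2.bc k X K), Function.Surjective g ∧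
      g '' (FBaseLib.bcMap (X ↘ Spec (CommRingCat.of k)) L M ⁻¹' (Curv2.bcFst k X L ⁻¹' T)) =
        Curv2.bcFst k X K ⁻¹' T := by
  let M := AlgebraicClosure K
  let ψ : L →ₐ[k] M := IsAlgClosed.lift
  let : Algebra L M := ψ.toRingHom.toAlgebra
  have : IsScalarTower k L M := IsScalarTower.of_algebraMap_eq fun r => (ψ.commutes r).symm
  let g : Curv2.bc k X M ⟶ Curv2.bc k X K := FBaseLib.bcMap (X ↘ Spec (CommRingCat.of k)) K M
  have hg : Function.Surjective g := (FBaseLib.bcMap (X ↘ Spec (CommRingCat.of k)) K M).surjective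
  refine ⟨M, inferInstance, inferInstance, inferInstance, inferInstance, g, hg, ?_⟩
  have h1 : FBaseLib.bcMap (X ↘ Spec (CommRingCat.of k)) L M ⁻¹' (Curv2.bcFst k X L ⁻¹' T) =
      g ⁻¹' (Curv2.bcFst k X K ⁻¹' T) := by
    ext z
    have e1 := congr($(FBaseLib.bcMap_fst (X ↘ Spec (CommRingCat.of k)) L M).base z)
    have e2 := congr($(FBaseLib.bcMap_fst (X ↘ Spec (CommRingCat.of k)) K M).base z)
    exact (iff_of_eq (congrArg (· ∈ T) (e1.trans e2.symm)))
  rw [h1, Set.image_preimage_eq _ hg]

theorem isIrreducible_preimage_of_sepClosed (L : Type u) [Field L] [Algebra k L] [IsSepClosed L]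
    [Algebra.IsAlgebraic k L] {T : Set X} (hT : IsIrreducible (Curv2.bcFst k X L ⁻¹' T)) (K : Type u) [Field K] [Algebra k K] :
    IsIrreducible (Curv2.bcFst k X K ⁻¹' T) := by
  obtain ⟨M, _, _, _, _, g, -, hg⟩ := preimage_transfer (k := k) (X := X) L K T
  rw [← hg]
  exact (isIrreducible_bcMap_preimage L M hT).image _ g.continuous.continuousOn

theorem isConnected_preimage_of_sepClosed (L : Type u) [Field L] [Algebra k L] [IsSepClosed L]
    [Algebra.IsAlgebraic k L] {T : Set X} (hT : _root_.IsConnected (Curv2.bcFst k X L ⁻¹' T)) (K : Type u) [Field K] [Algebra k K] :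
    _root_.IsConnected (Curv2.bcFst k X K ⁻¹' T) := by
  obtain ⟨M, _, _, _, _, g, -, hg⟩ := preimage_transfer (k := k) (X := X) L K T
  rw [← hg]
  exact (isConnected_bcMap_preimage L M hT).image _ g.continuous.continuousOn

theorem component_invariant_iff (L : Type u) [Field L] [Algebra k L] [IsSepClosed L] [Algebra.IsAlgebraic k L]
    [Normal k L] (Z : Set (Curv2.bc k X L)) (hZ : Z ∈ irreducibleComponents (Curv2.bc k X L : Type u)) :
    (∀ σ : L ≃ₐ[k] L, Curv2.galAct k X L σ '' Z = Z) ↔
      ∃ T ∈ irreducibleComponents (X : Type u), Curv2.bcFst k X L ⁻¹' T = Z ∧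
        ∀ (K : Type u) [Field K] [Algebra k K], IsIrreducible (Curv2.bcFst k X K ⁻¹' T) := by
  constructor
  · intro h
    have hT := image_component (k := k) L hZ
    have hpre : Curv2.bcFst k X L ⁻¹' (Curv2.bcFst k X L '' Z) = Z := by
      refine subset_antisymm (fun y hy => ?_) (Set.subset_preimage_image _ _)
      obtain ⟨z, hz, hzy⟩ := hy
      obtain ⟨σ, rfl⟩ := exists_galAct_eq z y hzy
      exact (h σ).subset ⟨z, hz, rfl⟩
    refine ⟨_, hT, hpre, fun K _ _ => isIrreducible_preimage_of_sepClosed L ?_ K⟩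
    rw [hpre]; exact hZ.1
  · rintro ⟨T, -, hT, -⟩ σ
    rw [← hT]
    refine subset_antisymm (Set.image_subset_iff.2 fun y hy => ?_) fun y hy =>
      ⟨Curv2.galAct k X L σ.symm y, ?_, congr($(galAct_symm (X := X) σ).base y)⟩
    · show Curv2.bcFst k X L (Curv2.galAct k X L σ y) ∈ T
      rw [bcFst_galAct]; exact hy
    · show Curv2.bcFst k X L (Curv2.galAct k X L σ.symm y) ∈ T
      rw [bcFst_galAct]; exact hy

end Groth.Agent.GeomField
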