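import Groth.Agent.GrpSchLib.Reduced
import Groth.Agent.FBaseLib.Reduced
import Mathlib.RingTheory.Localization.AtPrime.Basic
import Mathlib.RingTheory.IntegralClosure.Algebra.Basic
import Mathlib.FieldTheory.PurelyInseparable.PerfectClosure
import Mathlib.RingTheory.IntegralClosure.IsIntegralClosure.Basic
import Mathlib.RingTheory.TensorProduct.Finite

/-!
# Geometrically reduced algebras: localizations, field extensions, purely inseparable test fields
-/

open TensorProduct

namespace Groth.Agent.GeomField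

universe u

variable {k : Type u} [Field k]

section Coordinates

variable {A B : Type u} [CommRing A] [Algebra k A] [CommRing B] [Algebra k B]
variable (K : Type u) [CommRing K] [Algebra k K]

/-- The coefficients of an element of `A ⊗ K` in a basis of `K` are natural in `A`. -/
theorem repr_map {ι : Type u} (b : Module.Basis ι k K) (f : A →ₐ[k] B) (y : A ⊗[k] K) (i : ι) :
    (Algebra.TensorProduct.basis B b).repr (Algebra.TensorProduct.map f (AlgHom.id k K) y) i =
      f ((Algebra.TensorProduct.basis A b).repr y i) := by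
  induction y using TensorProduct.induction_on with
  | zero => simp
  | tmul a c => simp [Algebra.smul_def, map_mul]
  | add y z hy hz => simp [hy, hz]

/-- `B ⊗ K` is reduced as soon as `A` embeds in a product of algebras with this property. -/
theorem isReduced_tensor_of_jointly_injective {ι : Type*} (C : ι → Type u) [∀ i, CommRing (C i)]
    [∀ i, Algebra k (C i)] (f : ∀ i, A →ₐ[k] C i) (hf : ∀ a, (∀ i, f i a = 0) → a = 0)
    (h : ∀ i, IsReduced (C i ⊗[k] K)) : IsReduced (A ⊗[k] K) := by
  refine ⟨fun x hx => ?_⟩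
  let b := Module.Free.chooseBasis k K
  apply (Algebra.TensorProduct.basis A b).repr.injective
  ext j
  simp only [map_zero, Finsupp.zero_apply]
  refine hf _ fun i => ?_
  have := h i
  have h0 : Algebra.TensorProduct.map (f i) (AlgHom.id k K) x = 0 := (hx.map _).eq_zero
  rw [← repr_map K b (f i) x j, h0, map_zero, Finsupp.zero_apply]

variable [Algebra A B] [IsScalarTower k A B] (M : Submonoid A) [IsLocalization M B]

include M in
/-- The kernel of `A ⊗ K → M⁻¹A ⊗ K` is killed by elements of `M`. -/
theorem exists_tmul_mul_eq_zero (y : A ⊗[k] K)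
    (hy : Algebra.TensorProduct.map (IsScalarTower.toAlgHom k A B) (AlgHom.id k K) y = 0) :
    ∃ t ∈ M, (t ⊗ₜ[k] (1 : K)) * y = 0 := by
  classical
  let b := Module.Free.chooseBasis k K
  let c := (Algebra.TensorProduct.basis A b).repr y
  have h : ∀ i, algebraMap A B (c i) = 0 := fun i => by
    have := repr_map K b (IsScalarTower.toAlgHom k A B) y i
    rw [hy, map_zero, Finsupp.zero_apply] at this
    exact this.symm
  have h' : ∀ i, ∃ t : M, (t : A) * c i = 0 := fun i => (IsLocalization.map_eq_zero_iff M B _).1 (h i)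
  choose t ht using h'
  refine ⟨∏ i ∈ c.support, (t i : A), M.prod_mem fun i _ => (t i).2, ?_⟩
  have hsmul : ∀ a : A, (a ⊗ₜ[k] (1 : K)) * y = a • y := fun a => by
    rw [Algebra.smul_def]
    rfl
  rw [hsmul]
  apply (Algebra.TensorProduct.basis A b).repr.injective
  ext i
  rw [map_smul, map_zero, Finsupp.zero_apply, Finsupp.smul_apply, smul_eq_mul]
  by_cases hi : i ∈ c.support
  · obtain ⟨d, hd⟩ := Finset.dvd_prod_of_mem (fun i => (t i : A)) hi
    rw [hd, mul_right_comm]
    show (t i : A) * c i * d = 0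
    rw [ht i, zero_mul]
  · show _ * c i = 0
    rw [Finsupp.notMem_support_iff.1 hi, mul_zero]

include M in
/-- Every element of `M⁻¹A ⊗ K` has a denominator in `M`. -/
theorem exists_tmul_mul_eq_map (z : B ⊗[k] K) :
    ∃ m ∈ M, ∃ a : A ⊗[k] K, (algebraMap A B m ⊗ₜ[k] (1 : K)) * z =
      Algebra.TensorProduct.map (IsScalarTower.toAlgHom k A B) (AlgHom.id k K) a := by
  induction z using TensorProduct.induction_on with
  | zero => exact ⟨1, M.one_mem, 0, by simp⟩
  | tmul b c =>
    obtain ⟨⟨a, m⟩, h⟩ := IsLocalization.surj M b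
    refine ⟨m, m.2, a ⊗ₜ[k] c, ?_⟩
    rw [Algebra.TensorProduct.tmul_mul_tmul, one_mul, mul_comm, Algebra.TensorProduct.map_tmul]
    exact congrArg (· ⊗ₜ[k] c) h
  | add y z hy hz =>
    obtain ⟨m, hm, a, ha⟩ := hy
    obtain ⟨n, hn, b, hb⟩ := hz
    refine ⟨m * n, M.mul_mem hm hn, (n ⊗ₜ[k] 1) * a + (m ⊗ₜ[k] 1) * b, ?_⟩
    have hsplit : (algebraMap A B (m * n)) ⊗ₜ[k] (1 : K) =
        (algebraMap A B m ⊗ₜ[k] (1 : K)) * (algebraMap A B n ⊗ₜ[k] (1 : K)) := by
      rw [Algebra.TensorProduct.tmul_mul_tmul, mul_one, map_mul]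
    rw [hsplit, map_add, map_mul, map_mul, ← ha, ← hb, Algebra.TensorProduct.map_tmul,
      Algebra.TensorProduct.map_tmul, AlgHom.id_apply, IsScalarTower.coe_toAlgHom']
    ring

include M in
theorem isUnit_tmul_one {m : A} (hm : m ∈ M) : IsUnit (algebraMap A B m ⊗ₜ[k] (1 : K)) :=
  (IsLocalization.map_units B (⟨m, hm⟩ : M)).map (Algebra.TensorProduct.includeLeft : B →ₐ[k] B ⊗[k] K)

include M in
/-- Localization preserves reducedness of base changes. -/
theorem isReduced_tensor_localization [IsReduced (A ⊗[k] K)] : IsReduced (B ⊗[k] K) := by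
  refine ⟨fun z hz => ?_⟩
  obtain ⟨m, hm, a, ha⟩ := exists_tmul_mul_eq_map K M z
  obtain ⟨n, hn⟩ := hz
  have h0 : Algebra.TensorProduct.map (IsScalarTower.toAlgHom k A B) (AlgHom.id k K) (a ^ (n + 1)) = 0 := by
    rw [map_pow, ← ha, mul_pow, pow_succ z, hn, zero_mul, mul_zero]
  obtain ⟨t, ht, hta⟩ := exists_tmul_mul_eq_zero K M _ h0
  have hnil : IsNilpotent ((t ⊗ₜ[k] (1 : K)) * a) := by
    refine ⟨n + 1, ?_⟩
    rw [mul_pow, pow_succ (t ⊗ₜ[k] (1 : K)), mul_assoc, hta, mul_zero]
  have h1 := congrArg (Algebra.TensorProduct.map (IsScalarTower.toAlgHom k A B) (AlgHom.id k K))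
    hnil.eq_zero
  rw [map_mul, map_zero, ← ha, Algebra.TensorProduct.map_tmul, AlgHom.id_apply,
    IsScalarTower.coe_toAlgHom', ← mul_assoc, ((isUnit_tmul_one K M ht).mul
      (isUnit_tmul_one K M hm)).mul_right_eq_zero] at h1
  exact h1

end Coordinates

section GR

variable (A : Type u) [CommRing A] [Algebra k A]

theorem gr_iff : Algebra.IsGeometricallyReduced k A ↔ IsReduced (A ⊗[k] AlgebraicClosure k) := by
  rw [Algebra.isGeometricallyReduced_field_iff]
  exact ⟨fun _ => isReduced_of_injective (Algebra.TensorProduct.comm k A (AlgebraicClosure k))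
      (Algebra.TensorProduct.comm k A (AlgebraicClosure k)).injective,
    fun _ => isReduced_of_injective (Algebra.TensorProduct.comm k (AlgebraicClosure k) A)
      (Algebra.TensorProduct.comm k (AlgebraicClosure k) A).injective⟩

theorem isReduced_tensor_field [Algebra.IsGeometricallyReduced k A] (L : Type u) [Field L] [Algebra k L] :
    IsReduced (A ⊗[k] L) := by
  have := FBaseLib.isReduced_field_tensor (k := k) A L
  exact isReduced_of_injective (Algebra.TensorProduct.comm k A L) (Algebra.TensorProduct.comm k A L).injective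

/-- Localizations of geometrically reduced algebras are geometrically reduced. -/
theorem gr_localization (B : Type u) [CommRing B] [Algebra k B] [Algebra A B] [IsScalarTower k A B]
    (M : Submonoid A) [IsLocalization M B] [Algebra.IsGeometricallyReduced k A] :
    Algebra.IsGeometricallyReduced k B := by
  rw [gr_iff]
  have := (gr_iff (k := k) A).1 inferInstance
  exact isReduced_tensor_localization (AlgebraicClosure k) M

/-- Base change of geometrically reduced algebras to a field extension. -/
theorem gr_baseChange [Algebra.IsGeometricallyReduced k A] (L : Type u) [Field L] [Algebra k L] :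
    Algebra.IsGeometricallyReduced L (L ⊗[k] A) := by
  rw [Algebra.isGeometricallyReduced_field_iff]
  have := FBaseLib.isReduced_field_tensor (k := k) A (AlgebraicClosure L)
  exact isReduced_of_injective
    (Algebra.TensorProduct.cancelBaseChange k L (AlgebraicClosure L) (AlgebraicClosure L) A)
    (Algebra.TensorProduct.cancelBaseChange k L (AlgebraicClosure L) (AlgebraicClosure L) A).injective

theorem isReduced_tensor_of_separable_tower (P E : Type u) [Field P] [Field E] [Algebra k P] [Algebra k E]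
    [Algebra P E] [IsScalarTower k P E] [Algebra.IsSeparable P E] [IsReduced (P ⊗[k] A)] :
    IsReduced (E ⊗[k] A) := by
  have h1 := GrpSchLib.isReduced_tensor_of_isSeparable P E (P ⊗[k] A)
  have h2 : IsReduced (E ⊗[P] (P ⊗[k] A)) :=
    isReduced_of_injective (Algebra.TensorProduct.comm P E (P ⊗[k] A))
      (Algebra.TensorProduct.comm P E (P ⊗[k] A)).injective
  exact isReduced_of_injective
    (Algebra.TensorProduct.cancelBaseChange k P E E A).symm
    (Algebra.TensorProduct.cancelBaseChange k P E E A).symm.injective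

/-- It is enough to test geometric reducedness on finite purely inseparable extensions. -/
theorem gr_of_purelyInseparable
    (h : ∀ (k' : Type u) [Field k'] [Algebra k k'] [FiniteDimensional k k'] [IsPurelyInseparable k k'],
      IsReduced (A ⊗[k] k')) :
    Algebra.IsGeometricallyReduced k A := by
  rw [Algebra.isGeometricallyReduced_field_iff]
  let P := perfectClosure k (AlgebraicClosure k)
  have hP : IsReduced (A ⊗[k] P) := by
    refine IsReduced.tensorProduct_of_flat_of_forall_fg fun B hB => ?_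
    let : Field B := (Subalgebra.isField_of_algebraic B).toField
    have : Algebra.FiniteType k B := B.fg_iff_finiteType.mp hB
    have : Algebra.IsIntegral k B := Algebra.IsIntegral.of_injective B.val Subtype.val_injective
    have : Module.Finite k B := Algebra.IsIntegral.finite
    let : Algebra B P := B.val.toRingHom.toAlgebra
    have : IsScalarTower k B P := IsScalarTower.of_algebraMap_eq fun c => (B.val.commutes c).symm
    have : IsPurelyInseparable k B := IsPurelyInseparable.tower_bot k B P
    exact h B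
  have : IsReduced (P ⊗[k] A) := isReduced_of_injective (Algebra.TensorProduct.comm k P A)
    (Algebra.TensorProduct.comm k P A).injective
  have : PerfectField P := inferInstance
  have : Algebra.IsAlgebraic P (AlgebraicClosure k) := Algebra.IsAlgebraic.tower_top (K := k) P
  have : Algebra.IsSeparable P (AlgebraicClosure k) := inferInstance
  exact isReduced_tensor_of_separable_tower A P (AlgebraicClosure k)

end GR

section Local

variable {A : Type u} [CommRing A] [Algebra k A] (P : Ideal A) [P.IsPrime]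
  (B : Type u) [CommRing B] [Algebra k B] [Algebra A B] [IsScalarTower k A B] [IsLocalization.AtPrime B P]
  (K : Type u) [CommRing K] [Algebra k K]

include P in
/-- Local rings of `A ⊗ K` over `P` are reduced if `A_P ⊗ K` is. -/
theorem isReduced_atPrime_of_tensor [IsReduced (B ⊗[k] K)] (Q : Ideal (A ⊗[k] K)) [Q.IsPrime]
    (hQ : Q.comap (algebraMap A (A ⊗[k] K)) = P)
    (C : Type u) [CommRing C] [Algebra (A ⊗[k] K) C] [IsLocalization.AtPrime C Q] : IsReduced C := by
  refine ⟨fun c hc => ?_⟩
  obtain ⟨⟨a, s⟩, hs⟩ := IsLocalization.surj Q.primeCompl c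
  obtain ⟨n, hn⟩ := hc
  have h0 : algebraMap (A ⊗[k] K) C (a ^ (n + 1)) = 0 := by
    rw [map_pow, ← hs, mul_pow, pow_succ c, hn, zero_mul, zero_mul]
  obtain ⟨v, hv⟩ := (IsLocalization.map_eq_zero_iff Q.primeCompl C _).1 h0
  have hnil : IsNilpotent ((v : A ⊗[k] K) * a) := by
    refine ⟨n + 1, ?_⟩
    rw [mul_pow, pow_succ (v : A ⊗[k] K), mul_assoc, hv, mul_zero]
  have h1 : Algebra.TensorProduct.map (IsScalarTower.toAlgHom k A B) (AlgHom.id k K)
      ((v : A ⊗[k] K) * a) = 0 := (hnil.map _).eq_zero
  obtain ⟨t, ht, hta⟩ := exists_tmul_mul_eq_zero K P.primeCompl _ h1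
  have htQ : (t ⊗ₜ[k] (1 : K)) ∉ Q := fun h => ht (hQ ▸ h)
  have h2 : algebraMap (A ⊗[k] K) C a = 0 :=
    (IsLocalization.map_eq_zero_iff Q.primeCompl C _).2
      ⟨⟨(t ⊗ₜ[k] (1 : K)) * v, Q.primeCompl.mul_mem htQ v.2⟩,
        show (t ⊗ₜ[k] (1 : K)) * v * a = 0 by rw [mul_assoc]; exact hta⟩
  rw [← hs] at h2
  exact (IsLocalization.map_units C s).mul_left_eq_zero.1 h2

include P in
/-- For an algebraic extension `K`, `A_P ⊗ K` is reduced if the local rings over `P` are. -/
theorem isReduced_tensor_of_atPrime [Algebra.IsIntegral k K]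
    (h : ∀ (Q : Ideal (A ⊗[k] K)) [Q.IsPrime], Q.comap (algebraMap A (A ⊗[k] K)) = P →
      IsReduced (Localization.AtPrime Q)) : IsReduced (B ⊗[k] K) := by
  refine ⟨fun z hz => ?_⟩
  have : IsLocalRing B := IsLocalization.AtPrime.isLocalRing B P
  let ψ : A ⊗[k] K →ₐ[k] B ⊗[k] K :=
    Algebra.TensorProduct.map (IsScalarTower.toAlgHom k A B) (AlgHom.id k K)
  obtain ⟨m, hm, a, ha⟩ := exists_tmul_mul_eq_map K P.primeCompl z
  obtain ⟨n, hn⟩ := hz
  have h0 : ψ (a ^ (n + 1)) = 0 := by
    rw [map_pow, ← ha, mul_pow, pow_succ z, hn, zero_mul, mul_zero]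
  obtain ⟨t, ht, hta⟩ := exists_tmul_mul_eq_zero K P.primeCompl _ h0
  set a' := (t ⊗ₜ[k] (1 : K)) * a with ha'
  have hnil : IsNilpotent a' := ⟨n + 1, by
    rw [ha', mul_pow, pow_succ (t ⊗ₜ[k] (1 : K)), mul_assoc, hta, mul_zero]⟩
  have hz0 : ψ a' = 0 := by
    by_contra hne
    obtain ⟨N, hN, hle⟩ := Ideal.exists_le_maximal (Ideal.torsionOf (B ⊗[k] K) (B ⊗[k] K) (ψ a'))
      (fun htop => hne (by
        have h1 : (1 : B ⊗[k] K) ∈ Ideal.torsionOf (B ⊗[k] K) (B ⊗[k] K) (ψ a') := htop ▸ trivial
        rwa [Ideal.mem_torsionOf_iff, one_smul] at h1))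
    have hmax : (N.comap (algebraMap B (B ⊗[k] K))).IsMaximal :=
      Ideal.isMaximal_comap_of_isIntegral_of_isMaximal N
    let Q : Ideal (A ⊗[k] K) := N.comap ψ
    have hQ : Q.IsPrime := Ideal.IsPrime.comap ψ
    have hQP : Q.comap (algebraMap A (A ⊗[k] K)) = P := by
      rw [← IsLocalization.AtPrime.comap_maximalIdeal B P, ← IsLocalRing.eq_maximalIdeal hmax]
      ext x
      show ψ (x ⊗ₜ[k] (1 : K)) ∈ N ↔ algebraMap B (B ⊗[k] K) (algebraMap A B x) ∈ N
      rw [Algebra.TensorProduct.map_tmul]
      rfl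
    have := h Q hQP
    have h2 : algebraMap (A ⊗[k] K) (Localization.AtPrime Q) a' = 0 := (hnil.map _).eq_zero
    obtain ⟨v, hv⟩ := (IsLocalization.map_eq_zero_iff Q.primeCompl (Localization.AtPrime Q) _).1 h2
    refine v.2 (hle ?_)
    show ψ (v : A ⊗[k] K) • ψ a' = 0
    rw [smul_eq_mul, ← map_mul, hv, map_zero]
  rw [ha', map_mul, show ψ (t ⊗ₜ[k] (1 : K)) = algebraMap A B t ⊗ₜ[k] (1 : K) from rfl,
    show ψ a = (algebraMap A B m ⊗ₜ[k] (1 : K)) * z from ha.symm, ← mul_assoc,
    ((isUnit_tmul_one K P.primeCompl ht).mul (isUnit_tmul_one K P.primeCompl hm)).mul_right_eq_zero]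
    at hz0
  exact hz0

include P in
theorem gr_atPrime_iff :
    Algebra.IsGeometricallyReduced k B ↔
      ∀ (L : Type u) [Field L] [Algebra k L] (Q : Ideal (A ⊗[k] L)) [Q.IsPrime],
        Q.comap (algebraMap A (A ⊗[k] L)) = P → IsReduced (Localization.AtPrime Q) := by
  constructor
  · intro _ L _ _ Q _ hQ
    have := isReduced_tensor_field (k := k) B L
    exact isReduced_atPrime_of_tensor P B L Q hQ _
  · intro h
    rw [gr_iff]
    exact isReduced_tensor_of_atPrime P B _ (h (AlgebraicClosure k))

end Local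

end Groth.Agent.GeomField
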