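import Groth.Agent.GeomField.Orbit
import Mathlib.FieldTheory.Normal.Closure
import Mathlib.RingTheory.Artinian.Module

/-!
# Connected components under extension of the base field

For a normal algebraic extension `K/k`, every connected component of `X_K` maps onto a connected
component of `X`.
-/

open CategoryTheory CategoryTheory.Limits AlgebraicGeometry TensorProduct

set_option backward.isDefEq.respectTransparency false
set_option backward.isDefEq.respectTransparency.types false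

namespace Groth.Agent.GeomField

universe u

attribute [local instance] Curv2.resAlgebra

/-- A connected component is clopen if there is an open closed map to a connected space with a finite fibre. -/
theorem isClopen_connectedComponent_of_finite_fibre {Y T : Type*} [TopologicalSpace Y] [TopologicalSpace T]
    [PreconnectedSpace T] (f : Y → T) (ho : IsOpenMap f) (hc : IsClosedMap f) (t₀ : T)
    (hfin : (f ⁻¹' {t₀}).Finite) (y : Y) : IsClopen (connectedComponent y) := by
  let 𝒰 : Set (Set Y) := {U | IsClopen U}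
  have hsur : ∀ U : Set Y, IsClopen U → U.Nonempty → t₀ ∈ f '' U := fun U hU hne => by
    rw [IsClopen.eq_univ ⟨hc U hU.1, ho U hU.2⟩ (hne.image f)]
    trivial
  have h𝒰 : 𝒰.Finite := by
    refine Set.Finite.of_finite_image (f := fun U => U ∩ f ⁻¹' {t₀})
      (hfin.finite_subsets.subset ?_) ?_
    · rintro _ ⟨U, -, rfl⟩; exact Set.inter_subset_right
    · intro U hU V hV h
      have key : ∀ A B : Set Y, IsClopen A → IsClopen B →
          A ∩ f ⁻¹' {t₀} = B ∩ f ⁻¹' {t₀} → A ⊆ B := fun A B hA hB he => by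
        by_contra hn
        obtain ⟨a, ⟨haA, haB⟩, hat⟩ := hsur _ (hA.diff hB) (Set.diff_nonempty.2 hn)
        exact haB (he.subset ⟨haA, hat⟩).1
      exact subset_antisymm (key U V hU hV h) (key V U hV hU h.symm)
  let U₀ : Set Y := ⋂ U ∈ {U : Set Y | IsClopen U ∧ y ∈ U}, U
  have hfin' : {U : Set Y | IsClopen U ∧ y ∈ U}.Finite := h𝒰.subset fun U hU => hU.1
  have hU₀ : IsClopen U₀ := hfin'.isClopen_biInter fun U hU => hU.1
  have hy : y ∈ U₀ := Set.mem_iInter₂.2 fun U hU => hU.2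
  have hpre : _root_.IsPreconnected U₀ := by
    intro u v hu hv huv ⟨a, haU, hau⟩ ⟨b, hbU, hbv⟩
    by_contra hne
    rw [Set.not_nonempty_iff_eq_empty] at hne
    have hclo : ∀ s t : Set Y, IsOpen s → IsOpen t → U₀ ⊆ s ∪ t → U₀ ∩ (s ∩ t) = ∅ → IsClopen (U₀ ∩ s) := by
      intro s t hs ht hst hem
      refine ⟨?_, hU₀.2.inter hs⟩
      have : U₀ ∩ s = U₀ ∩ tᶜ := by
        ext w
        refine ⟨fun hw => ⟨hw.1, fun hwt => Set.eq_empty_iff_forall_notMem.1 hem w ⟨hw.1, hw.2, hwt⟩⟩,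
          fun hw => ⟨hw.1, (hst hw.1).resolve_right hw.2⟩⟩
      rw [this]
      exact hU₀.1.inter ht.isClosed_compl
    rcases huv hy with hyu | hyv
    · have h1 : U₀ ⊆ U₀ ∩ u := Set.biInter_subset_of_mem (t := fun U => U)
        (⟨hclo u v hu hv huv hne, hy, hyu⟩ : IsClopen (U₀ ∩ u) ∧ y ∈ U₀ ∩ u)
      exact Set.eq_empty_iff_forall_notMem.1 hne b ⟨hbU, (h1 hbU).2, hbv⟩
    · have h1 : U₀ ⊆ U₀ ∩ v := Set.biInter_subset_of_mem (t := fun U => U)
        (⟨hclo v u hv hu (Set.union_comm u v ▸ huv) (by rw [Set.inter_comm v u]; exact hne), hy, hyv⟩ :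
          IsClopen (U₀ ∩ v) ∧ y ∈ U₀ ∩ v)
      exact Set.eq_empty_iff_forall_notMem.1 hne a ⟨haU, hau, (h1 haU).2⟩
  have h2 : connectedComponent y = U₀ :=
    subset_antisymm (hU₀.connectedComponent_subset hy) (hpre.subset_connectedComponent hy)
  exact h2 ▸ hU₀

variable {k : Type u} [Field k] {X : Scheme.{u}} [X.Over (Spec (CommRingCat.of k))]
  {K : Type u} [Field K] [Algebra k K]

/-- The projection to a finite level. -/
noncomputable abbrev lvl (F : IntermediateField k K) : Curv2.bc k X K ⟶ Curv2.bc k X F :=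
  FBaseLib.bcMap (X ↘ Spec (CommRingCat.of k)) F K

theorem lvl_fst (F : IntermediateField k K) :
    lvl (X := X) F ≫ Curv2.bcFst k X F = Curv2.bcFst k X K :=
  FBaseLib.bcMap_fst (X ↘ Spec (CommRingCat.of k)) F K

theorem lvl_snd (F : IntermediateField k K) :
    lvl (X := X) F ≫ Curv2.bcSnd k X F =
      Curv2.bcSnd k X K ≫ Spec.map (CommRingCat.ofHom (algebraMap F K)) :=
  FBaseLib.bcMap_snd (X ↘ Spec (CommRingCat.of k)) F K

theorem lvl_fst_apply (F : IntermediateField k K) (z : Curv2.bc k X K) :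
    Curv2.bcFst k X F (lvl F z) = Curv2.bcFst k X K z :=
  congr($(lvl_fst F).base z)

theorem lvl_surjective (F : IntermediateField k K) : Function.Surjective (lvl (X := X) F) :=
  (FBaseLib.bcMap (X ↘ Spec (CommRingCat.of k)) F K).surjective

theorem exists_transition {F F' : IntermediateField k K} (h : F ≤ F') :
    ∃ t : Curv2.bc k X F' ⟶ Curv2.bc k X F, IsOpenMap t ∧ lvl (X := X) F' ≫ t = lvl F ∧
      t ≫ Curv2.bcFst k X F = Curv2.bcFst k X F' := by
  let : Algebra F F' := (IntermediateField.inclusion h).toRingHom.toAlgebra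
  have : IsScalarTower k F F' := IsScalarTower.of_algebraMap_eq fun r => rfl
  let t : Curv2.bc k X F' ⟶ Curv2.bc k X F := FBaseLib.bcMap (X ↘ Spec (CommRingCat.of k)) F F'
  have h1 : t ≫ Curv2.bcFst k X F = Curv2.bcFst k X F' :=
    FBaseLib.bcMap_fst (X ↘ Spec (CommRingCat.of k)) F F'
  have h2 : t ≫ Curv2.bcSnd k X F = Curv2.bcSnd k X F' ≫ Spec.map (CommRingCat.ofHom (algebraMap F F')) :=
    FBaseLib.bcMap_snd (X ↘ Spec (CommRingCat.of k)) F F'
  refine ⟨t, (FBaseLib.bcMap (X ↘ Spec (CommRingCat.of k)) F F').isOpenMap, ?_, h1⟩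
  apply pullback.hom_ext
  · rw [Category.assoc, h1, lvl_fst, lvl_fst]
  · rw [Category.assoc, h2, lvl_snd, ← Category.assoc, lvl_snd, Category.assoc, ← Spec.map_comp]
    congr 2

theorem galAct_lvl [Normal k K] (F : IntermediateField k K) [Normal k F] (σ : K ≃ₐ[k] K) :
    Curv2.galAct k X K σ ≫ lvl F = lvl F ≫ Curv2.galAct k X F (σ.restrictNormal F) := by
  apply pullback.hom_ext
  · simp only [Category.assoc, lvl_fst]
    rw [Curv2.galAct, Curv2.galAct, pullback.lift_fst, pullback.lift_fst, Category.comp_id, Category.comp_id,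
      lvl_fst]
  · simp only [Category.assoc, lvl_snd]
    rw [Curv2.galAct, Curv2.galAct, pullback.lift_snd_assoc, pullback.lift_snd, reassoc_of% lvl_snd (X := X) F]
    simp only [Category.assoc]
    rw [← Spec.map_comp, ← Spec.map_comp]
    congr 2
    ext r
    exact (AlgEquiv.restrictNormal_commutes σ F r).symm

section

variable [Normal k K] {T : Set X} (hT : _root_.IsPreconnected T) (hTc : IsClosed T)
  (z : Curv2.bc k X K) (hz : Curv2.bcFst k X K z ∈ T)

variable (T) in
/-- The component at a finite level. -/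
def levelComp (F : IntermediateField k K) : Set (Curv2.bc k X F) :=
  connectedComponentIn (Curv2.bcFst k X F ⁻¹' T) (lvl F z)

include hz in
theorem mem_levelComp (F : IntermediateField k K) : lvl F z ∈ levelComp T z F :=
  mem_connectedComponentIn (show Curv2.bcFst k X F (lvl F z) ∈ T by rw [lvl_fst_apply]; exact hz)

include hT hTc hz in
theorem levelComp_clopen (F : IntermediateField k K) [FiniteDimensional k F] :
    IsClosed (levelComp T z F) ∧ ∃ O, IsOpen O ∧ levelComp T z F = O ∩ Curv2.bcFst k X F ⁻¹' T := by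
  have hmem : lvl F z ∈ Curv2.bcFst k X F ⁻¹' T :=
    show Curv2.bcFst k X F (lvl F z) ∈ T by rw [lvl_fst_apply]; exact hz
  have : PreconnectedSpace T := isPreconnected_iff_preconnectedSpace.1 hT
  let x₀ := Curv2.bcFst k X K z
  have hfin : (Set.restrictPreimage T (Curv2.bcFst k X F) ⁻¹' {(⟨x₀, hz⟩ : T)}).Finite := by
    have : IsArtinianRing (X.residueField x₀ ⊗[k] F) :=
      IsArtinianRing.of_finite (X.residueField x₀) (X.residueField x₀ ⊗[k] F)
    have h1 : (Curv2.bcFst k X F ⁻¹' {x₀}).Finite := by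
      let ι := X.fromSpecResidueField x₀
      have hr : Curv2.bcFst k X F ⁻¹' {x₀} = Set.range (pullback.snd ι (Curv2.bcFst k X F)) := by
        rw [Scheme.Pullback.range_snd, Scheme.range_fromSpecResidueField]
      have hsp : Finite ↥(Spec (CommRingCat.of (X.residueField x₀ ⊗[k] F))) :=
        @Finite.of_equiv _ _ (IsArtinianRing.setOfPred_isPrime_finite (X.residueField x₀ ⊗[k] F)).to_subtype
          (PrimeSpectrum.equivSubtype _).symm.toEquiv
      have : Finite ↥(pullback ι (Curv2.bcFst k X F)) := Finite.of_equiv _ (fibreIso F x₀).hom.homeomorph.toEquiv.symm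
      rw [hr]
      exact Set.finite_range _
    exact (h1.preimage Subtype.val_injective.injOn).subset fun w hw => congrArg Subtype.val hw
  have hcl := isClopen_connectedComponent_of_finite_fibre _
    ((isOpenMap_bcFst (k := k) (X := X) F).restrictPreimage T)
    ((isClosedMap_bcFst (k := k) (X := X) F).restrictPreimage T) ⟨x₀, hz⟩ hfin ⟨_, hmem⟩
  rw [levelComp, connectedComponentIn_eq_image hmem]
  refine ⟨(hTc.preimage (Curv2.bcFst k X F).continuous).isClosedMap_subtype_val _ hcl.1, ?_⟩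
  obtain ⟨O, hO, hOeq⟩ := isOpen_induced_iff.1 hcl.2
  exact ⟨O, hO, by rw [← hOeq, Subtype.image_preimage_coe, Set.inter_comm]⟩

include hT hTc hz in
theorem levelComp_surj (F : IntermediateField k K) [FiniteDimensional k F] :
    T ⊆ Curv2.bcFst k X F '' levelComp T z F := by
  obtain ⟨hc, O, hO, hCO⟩ := levelComp_clopen hT hTc z hz F
  intro x hx
  by_contra hx'
  obtain ⟨w, hwT, hw1, hw2⟩ := hT (Curv2.bcFst k X F '' O) (Curv2.bcFst k X F '' levelComp T z F)ᶜ
    (isOpenMap_bcFst F O hO) (isClosedMap_bcFst F _ hc).isOpen_compl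
    (fun w hw => by
      by_cases h : w ∈ Curv2.bcFst k X F '' levelComp T z F
      · obtain ⟨c, hc, rfl⟩ := h
        exact Or.inl ⟨c, (hCO.subset hc).1, rfl⟩
      · exact Or.inr h)
    ⟨_, hz, lvl F z, (hCO.subset (mem_levelComp z hz F)).1, lvl_fst_apply F z⟩ ⟨x, hx, hx'⟩
  obtain ⟨o, ho, rfl⟩ := hw1
  exact hw2 ⟨o, hCO.ge ⟨ho, hwT⟩, rfl⟩

theorem transition_levelComp {F F' : IntermediateField k K} (t : Curv2.bc k X F' ⟶ Curv2.bc k X F)
    (ht1 : lvl (X := X) F' ≫ t = lvl F) (ht2 : t ≫ Curv2.bcFst k X F = Curv2.bcFst k X F')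
    (hz : Curv2.bcFst k X K z ∈ T) :
    t '' levelComp T z F' ⊆ levelComp T z F := by
  have h0 : t (lvl F' z) = lvl F z := congr($(ht1).base z)
  refine (isPreconnected_connectedComponentIn.image t t.continuous.continuousOn).subset_connectedComponentIn
    ⟨_, mem_levelComp z hz F', h0⟩ ?_
  rintro _ ⟨c, hc, rfl⟩
  show Curv2.bcFst k X F (t c) ∈ T
  have h := connectedComponentIn_subset _ _ hc
  rw [show Curv2.bcFst k X F (t c) = Curv2.bcFst k X F' c from congr($(ht2).base c)]
  exact h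

variable (T) in
/-- The limit of the level components. -/
def limComp : Set (Curv2.bc k X K) :=
  ⋂ F ∈ {F : IntermediateField k K | FiniteDimensional k F ∧ Normal k F}, lvl F ⁻¹' levelComp T z F

theorem exists_level (F : IntermediateField k K) [FiniteDimensional k F] :
    ∃ F' : IntermediateField k K, F ≤ F' ∧ FiniteDimensional k F' ∧ Normal k F' :=
  ⟨IntermediateField.normalClosure k F K, F.le_normalClosure, inferInstance, inferInstance⟩

omit [Normal k K] in
theorem isIntegralHom_lvl (F : IntermediateField k K) [Algebra.IsAlgebraic k K] :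
    IsIntegralHom (lvl (X := X) F) := by
  have : Algebra.IsIntegral F K := Algebra.IsIntegral.tower_top k
  have h1 : IsIntegralHom (Spec.map (CommRingCat.ofHom (algebraMap F K))) :=
    IsIntegralHom.SpecMap_iff.2 (algebraMap_isIntegral_iff.2 inferInstance)
  have : IsIntegralHom (FBase.bcπ (FBase.bcStr (X ↘ Spec (CommRingCat.of k)) F) K) :=
    MorphismProperty.pullback_fst _ _ h1
  unfold lvl FBaseLib.bcMap
  infer_instance

theorem isCompact_fibre_lvl (F : IntermediateField k K) (c : Curv2.bc k X F) :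
    IsCompact (lvl F ⁻¹' {c}) := by
  have hint := isIntegralHom_lvl (X := X) F
  let ι := (Curv2.bc k X F).fromSpecResidueField c
  have hr : lvl F ⁻¹' {c} = Set.range (pullback.snd ι (lvl F)) := by
    rw [Scheme.Pullback.range_snd, Scheme.range_fromSpecResidueField]
  have : IsAffineHom (pullback.fst ι (lvl (X := X) F)) := MorphismProperty.pullback_fst _ _ inferInstance
  have : IsAffine (pullback ι (lvl (X := X) F)) := isAffine_of_isAffineHom (pullback.fst ι (lvl F))
  have : CompactSpace ↥(pullback ι (lvl (X := X) F)) := inferInstance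
  rw [hr]
  exact isCompact_range (pullback.snd ι (lvl F)).continuous

include hT hTc hz in
theorem levelComp_subset_image {F F' : IntermediateField k K} [FiniteDimensional k F'] (t : Curv2.bc k X F' ⟶ Curv2.bc k X F)
    (hto : IsOpenMap t) (ht1 : lvl (X := X) F' ≫ t = lvl F) (ht2 : t ≫ Curv2.bcFst k X F = Curv2.bcFst k X F') :
    levelComp T z F ⊆ t '' levelComp T z F' := by
  intro c hc
  by_contra hct
  obtain ⟨hcl, O, hO, hOeq⟩ := levelComp_clopen hT hTc z hz F'
  have hint := isIntegralHom_lvl (X := X) F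
  have hcl' : IsClosed (t '' levelComp T z F') := by
    have h3 : t '' levelComp T z F' = lvl F '' (lvl F' ⁻¹' levelComp T z F') := by
      conv_lhs => rw [← Set.image_preimage_eq (levelComp T z F') (lvl_surjective F'), Set.image_image]
      exact Set.image_congr fun a _ => congr($(ht1).base a)
    rw [h3]
    exact (lvl (X := X) F).isClosedMap _ (hcl.preimage (lvl F').continuous)
  obtain ⟨d, hdC, ⟨o, ho, hod⟩, hdn⟩ := isPreconnected_connectedComponentIn (F := Curv2.bcFst k X F ⁻¹' T)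
    (x := lvl F z) (t '' O) (t '' levelComp T z F')ᶜ (hto O hO) hcl'.isOpen_compl
    (fun d hd => by
      by_cases h : d ∈ t '' levelComp T z F'
      · obtain ⟨e, he, rfl⟩ := h
        exact Or.inl ⟨e, (hOeq.subset he).1, rfl⟩
      · exact Or.inr h)
    ⟨_, mem_levelComp z hz F, lvl F' z, (hOeq.subset (mem_levelComp z hz F')).1, congr($(ht1).base z)⟩
    ⟨c, hc, hct⟩
  subst hod
  refine hdn ⟨o, hOeq.ge ⟨ho, ?_⟩, rfl⟩
  have h4 := connectedComponentIn_subset _ _ hdC
  show Curv2.bcFst k X F' o ∈ T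
  rw [← show Curv2.bcFst k X F (t o) = Curv2.bcFst k X F' o from congr($(ht2).base o)]
  exact h4

include hz in
theorem exists_mem_limComp_lvl (hT : _root_.IsPreconnected T) (hTc : IsClosed T) (F : IntermediateField k K)
    [FiniteDimensional k F] [Normal k F] {c : Curv2.bc k X F} (hc : c ∈ levelComp T z F) :
    ∃ w ∈ limComp T z, lvl F w = c := by
  classical
  let I := {F : IntermediateField k K // FiniteDimensional k F ∧ Normal k F}
  let D : I → Set (Curv2.bc k X K) := fun G => lvl G.1 ⁻¹' levelComp T z G.1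
  have hD : ∀ G : I, IsClosed (D G) := fun G => by
    have := G.2.1
    exact (levelComp_clopen hT hTc z hz G.1).1.preimage (lvl G.1).continuous
  have hne : ∀ s : Finset I, (lvl F ⁻¹' {c} ∩ ⋂ G ∈ s, D G).Nonempty := by
    intro s
    have hfin : FiniteDimensional k (s.sup fun G => G.1 : IntermediateField k K) :=
      Finset.sup_induction (p := fun E : IntermediateField k K => FiniteDimensional k E) inferInstance
        (fun a ha b hb => by have := ha; have := hb; infer_instance) (fun G _ => G.2.1)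
    obtain ⟨F', hF', hfd, hn⟩ := exists_level (k := k) (F ⊔ (s.sup fun G => G.1))
    obtain ⟨t, hto, ht1, ht2⟩ := exists_transition (X := X) ((le_sup_left.trans hF') : F ≤ F')
    obtain ⟨c', hc', hct⟩ := levelComp_subset_image hT hTc z hz t hto ht1 ht2 hc
    obtain ⟨w, rfl⟩ := lvl_surjective (X := X) F' c'
    refine ⟨w, ?_, Set.mem_iInter₂.2 fun G hG => ?_⟩
    · show lvl F w = c
      rw [← hct]
      exact (congr($(ht1).base w)).symm
    · obtain ⟨tG, -, hG1, hG2⟩ := exists_transition (X := X)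
        (((Finset.le_sup (f := fun G : I => G.1) hG).trans (le_sup_right.trans hF')) : G.1 ≤ F')
      exact transition_levelComp z tG hG1 hG2 hz ⟨_, hc', congr($(hG1).base w)⟩
  obtain ⟨w, hw1, hw2⟩ := (isCompact_fibre_lvl F c).inter_iInter_nonempty D hD hne
  exact ⟨w, Set.mem_iInter₂.2 fun G hG => Set.mem_iInter.1 hw2 ⟨G, hG⟩, hw1⟩

include hT hTc hz in
theorem isClosed_limComp : IsClosed (limComp T z) :=
  isClosed_biInter fun F hF => by
    have : FiniteDimensional k F := hF.1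
    exact (levelComp_clopen hT hTc z hz F).1.preimage (lvl F).continuous

include hz in
theorem mem_limComp : z ∈ limComp T z :=
  Set.mem_iInter₂.2 fun F _ => mem_levelComp z hz F

theorem limComp_subset : limComp T z ⊆ Curv2.bcFst k X K ⁻¹' T := by
  intro w hw
  obtain ⟨F, -, hF1, hF2⟩ := exists_level (k := k) (K := K) ⊥
  have h := connectedComponentIn_subset _ _ (Set.mem_iInter₂.1 hw F ⟨hF1, hF2⟩)
  show Curv2.bcFst k X K w ∈ T
  rw [← lvl_fst_apply F w]
  exact h

include hT hTc hz in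
/-- `limComp → X_F` is open onto its image. -/
theorem exists_open_image (F : IntermediateField k K) [FiniteDimensional k F] [Normal k F]
    {V : Set (Curv2.bc k X K)} (hV : IsOpen V) {v : Curv2.bc k X K} (hv : v ∈ V) (hvC : v ∈ limComp T z) :
    ∃ O, IsOpen O ∧ lvl F v ∈ O ∧ O ∩ Curv2.bcFst k X F ⁻¹' T ⊆ lvl F '' (V ∩ limComp T z) := by
  obtain ⟨F1, hF1, hd⟩ := exists_open_descend (k := k) (X := X) hV hv
  obtain ⟨F', hF', hfd, hn⟩ := exists_level (F ⊔ F1)
  obtain ⟨V', hV', hvV', hV'V⟩ := hd F' (le_sup_right.trans hF')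
  obtain ⟨t, hto, ht1, ht2⟩ := exists_transition (X := X) ((le_sup_left.trans hF') : F ≤ F')
  obtain ⟨-, O, hO, hOeq⟩ := levelComp_clopen hT hTc z hz F'
  have hvC' : lvl F' v ∈ levelComp T z F' := Set.mem_iInter₂.1 hvC F' ⟨hfd, hn⟩
  refine ⟨t '' (V' ∩ O), hto _ (hV'.inter hO), ⟨lvl F' v, ⟨hvV', (hOeq.subset hvC').1⟩, congr($(ht1).base v)⟩, ?_⟩
  rintro _ ⟨⟨d, ⟨hdV, hdO⟩, rfl⟩, hdT⟩
  have hdC : d ∈ levelComp T z F' := by
    refine hOeq.ge ⟨hdO, ?_⟩
    show Curv2.bcFst k X F' d ∈ T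
    rw [← show Curv2.bcFst k X F (t d) = Curv2.bcFst k X F' d from congr($(ht2).base d)]
    exact hdT
  obtain ⟨w, hw, rfl⟩ := exists_mem_limComp_lvl z hz hT hTc F' hdC
  exact ⟨w, ⟨hV'V hdV, hw⟩, (congr($(ht1).base w)).symm⟩

include hz in
theorem galAct_mem_limComp (σ : K ≃ₐ[k] K) {w₀ : Curv2.bc k X K} (hw₀ : w₀ ∈ limComp T z)
    (hσ₀ : Curv2.galAct k X K σ w₀ ∈ limComp T z) {w : Curv2.bc k X K} (hw : w ∈ limComp T z) :
    Curv2.galAct k X K σ w ∈ limComp T z := by
  refine Set.mem_iInter₂.2 fun F hF => ?_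
  have : Normal k F := hF.2
  let g := Curv2.galAct k X F (σ.restrictNormal F)
  have hcomm : ∀ a, g (lvl F a) = lvl F (Curv2.galAct k X K σ a) := fun a =>
    (congr($(galAct_lvl (X := X) F σ).base a)).symm
  have hsub : g '' levelComp T z F ⊆ levelComp T z F := by
    have h0 : lvl F (Curv2.galAct k X K σ w₀) ∈ levelComp T z F := Set.mem_iInter₂.1 hσ₀ F hF
    have he : levelComp T z F = connectedComponentIn (Curv2.bcFst k X F ⁻¹' T) (lvl F (Curv2.galAct k X K σ w₀)) :=
      connectedComponentIn_eq h0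
    conv_rhs => rw [he]
    refine (isPreconnected_connectedComponentIn.image g g.continuous.continuousOn).subset_connectedComponentIn
      ⟨lvl F w₀, Set.mem_iInter₂.1 hw₀ F hF, hcomm w₀⟩ ?_
    rintro _ ⟨c, hc, rfl⟩
    show Curv2.bcFst k X F (g c) ∈ T
    rw [bcFst_galAct]
    exact (connectedComponentIn_subset _ _ hc :)
  show lvl F (Curv2.galAct k X K σ w) ∈ levelComp T z F
  rw [← hcomm]
  exact hsub ⟨_, Set.mem_iInter₂.1 hw F hF, rfl⟩

include hT hTc hz in
theorem isPreconnected_limComp : _root_.IsPreconnected (limComp T z) := by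
  classical
  intro U₀ W₀ hU₀ hW₀ hcov ⟨a, haC, haU⟩ ⟨b, hbC, hbW⟩
  by_contra hne
  rw [Set.not_nonempty_iff_eq_empty] at hne
  have hdisj : ∀ w ∈ limComp T z, w ∈ U₀ → w ∉ W₀ := fun w hw h1 h2 =>
    Set.eq_empty_iff_forall_notMem.1 hne w ⟨hw, h1, h2⟩
  have hC := isClosed_limComp hT hTc z hz
  let x₀ := Curv2.bcFst k X K z
  obtain ⟨c, P, hP⟩ := exists_chart (k := k) x₀
  have hcl : IsClosed (c.bcEmb K ⁻¹' (limComp T z ∩ W₀ᶜ)) :=
    (hC.inter hW₀.isClosed_compl).preimage (c.bcEmb K).continuous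
  obtain ⟨s, hs⟩ := hcl.isCompact.elim_finite_subcover
    (fun g : {g : c.R ⊗[k] K // (PrimeSpectrum.basicOpen g : Set (PrimeSpectrum (c.R ⊗[k] K))) ⊆ c.bcEmb K ⁻¹' U₀} =>
      (PrimeSpectrum.basicOpen g.1 : Set (PrimeSpectrum (c.R ⊗[k] K))))
    (fun g => (PrimeSpectrum.basicOpen g.1).2) (fun Q hQ => by
      obtain ⟨_, ⟨g, rfl⟩, hQg, hgU⟩ := PrimeSpectrum.isTopologicalBasis_basic_opens.exists_subset_of_mem_open
        (show Q ∈ c.bcEmb K ⁻¹' U₀ from (hcov hQ.1).resolve_right hQ.2) (hU₀.preimage (c.bcEmb K).continuous)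
      exact Set.mem_iUnion.2 ⟨⟨g, hgU⟩, hQg⟩)
  choose B hB hlift using fun g : c.R ⊗[k] K => exists_finite_lift g
  have hfin : FiniteDimensional k (s.sup fun g => B g.1 : IntermediateField k K) :=
    Finset.sup_induction (p := fun E : IntermediateField k K => FiniteDimensional k E) inferInstance
      (fun a ha b hb => by have := ha; have := hb; infer_instance) (fun g _ => hB g.1)
  obtain ⟨F, hF, hfd, hn⟩ := exists_level (s.sup fun g => B g.1)
  -- automorphisms over `F` preserving `limComp` preserve the pieces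
  have hinv : ∀ σ : K ≃ₐ[k] K, (∀ r : F, σ r = r) →
      (∀ w ∈ limComp T z, Curv2.galAct k X K σ w ∈ limComp T z) →
      ∀ w ∈ limComp T z, w ∈ U₀ → Curv2.galAct k X K σ w ∉ W₀ := by
    intro σ hσ hσC w hw hwU hwW
    let S := limComp T z ∩ (U₀ ∩ Curv2.galAct k X K σ ⁻¹' W₀)
    have hSc : IsClosed (Curv2.bcFst k X K '' S) := by
      refine isClosedMap_bcFst K _ ?_
      have : S = limComp T z ∩ W₀ᶜ ∩ Curv2.galAct k X K σ ⁻¹' U₀ᶜ := by
        ext y
        refine ⟨fun hy => ⟨⟨hy.1, hdisj y hy.1 hy.2.1⟩, fun h => hdisj _ (hσC y hy.1) h hy.2.2⟩,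
          fun hy => ⟨hy.1.1, (hcov hy.1.1).resolve_right hy.1.2, (hcov (hσC y hy.1.1)).resolve_left hy.2⟩⟩
      rw [this]
      exact (hC.inter hW₀.isClosed_compl).inter (hU₀.isClosed_compl.preimage (Curv2.galAct k X K σ).continuous)
    have hx₀ : x₀ ∉ Curv2.bcFst k X K '' S := by
      rintro ⟨y, ⟨hyC, hyU, hyW⟩, hyx⟩
      obtain ⟨Q, rfl⟩ := c.exists_bcEmb_eq K P y (hyx.trans hP.symm)
      obtain ⟨Q', hQ'⟩ := c.exists_bcEmb_eq K P (Curv2.galAct k X K σ (c.bcEmb K Q))
        ((bcFst_galAct σ _).trans (hyx.trans hP.symm))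
      obtain ⟨g, hg, hQg⟩ := Set.mem_iUnion₂.1 (hs (show Q ∈ c.bcEmb K ⁻¹' (limComp T z ∩ W₀ᶜ) from
        ⟨hyC, hdisj _ hyC hyU⟩))
      obtain ⟨e, he⟩ := hlift g.1 F ((Finset.le_sup (f := fun g => B g.1) hg).trans hF)
      let ψ := (Algebra.TensorProduct.map (AlgHom.id k c.R) (IsScalarTower.toAlgHom k F K)).toRingHom
      have hcomm : ∀ Q : Spec (CommRingCat.of (c.R ⊗[k] K)),
          lvl F (c.bcEmb K Q) = c.bcEmb F (PrimeSpectrum.comap ψ Q) := fun Q => congr($(c.bcEmb_bcMap K F).base Q)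
      have h1 : lvl F (Curv2.galAct k X K σ (c.bcEmb K Q)) = lvl F (c.bcEmb K Q) := galAct_bcMap F σ hσ _
      rw [← hQ', hcomm, hcomm] at h1
      have h2 := (c.bcEmb F).isOpenEmbedding.injective h1
      have h3 : Q' ∈ (PrimeSpectrum.basicOpen g.1 : Set (PrimeSpectrum (c.R ⊗[k] K))) := by
        rw [← he] at hQg ⊢
        show PrimeSpectrum.comap ψ Q' ∈ PrimeSpectrum.basicOpen e
        rw [h2]
        exact hQg
      have h4 : Curv2.galAct k X K σ (c.bcEmb K Q) ∈ U₀ := hQ' ▸ g.2 h3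
      exact hdisj _ (hσC _ hyC) h4 hyW
    obtain ⟨A, hA, hSA⟩ : ∃ A, IsOpen A ∧ Curv2.bcFst k X K '' S = A ∩ T := by
      have h : ∀ y ∈ S, ∃ O, IsOpen O ∧ Curv2.bcFst k X K y ∈ O ∧ O ∩ T ⊆ Curv2.bcFst k X K '' S := by
        rintro y ⟨hyC, hy⟩
        obtain ⟨O, hO, hyO, hsub⟩ := exists_open_image hT hTc z hz F
          (hU₀.inter (hW₀.preimage (Curv2.galAct k X K σ).continuous)) hy hyC
        refine ⟨Curv2.bcFst k X F '' O, isOpenMap_bcFst F O hO, ⟨_, hyO, lvl_fst_apply F y⟩, ?_⟩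
        rintro _ ⟨⟨o, ho, rfl⟩, hoT⟩
        obtain ⟨v, ⟨hv, hvC⟩, rfl⟩ := hsub ⟨ho, hoT⟩
        exact ⟨v, ⟨hvC, hv⟩, (lvl_fst_apply F v).symm⟩
      choose O hO hyO hOT using h
      refine ⟨⋃ (y) (hy : y ∈ S), O y hy, isOpen_iUnion fun y => isOpen_iUnion fun hy => hO y hy, ?_⟩
      refine subset_antisymm ?_ ?_
      · rintro _ ⟨y, hy, rfl⟩
        exact ⟨Set.mem_iUnion₂.2 ⟨y, hy, hyO y hy⟩, limComp_subset z hy.1⟩
      · rintro x ⟨hxA, hxT⟩
        obtain ⟨y, hy, hxy⟩ := Set.mem_iUnion₂.1 hxA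
        exact hOT y hy ⟨hxy, hxT⟩
    have hwS : w ∈ S := ⟨hw, hwU, hwW⟩
    have hwA : Curv2.bcFst k X K w ∈ A ∩ T := hSA.subset ⟨w, hwS, rfl⟩
    obtain ⟨x, hxT, hxA, hxn⟩ := hT A (Curv2.bcFst k X K '' S)ᶜ hA hSc.isOpen_compl
      (fun x hx => by
        by_cases h : x ∈ Curv2.bcFst k X K '' S
        · exact Or.inl (hSA.subset h).1
        · exact Or.inr h)
      ⟨_, hwA.2, hwA.1⟩ ⟨x₀, hz, hx₀⟩
    exact hxn (hSA.ge ⟨hxA, hxT⟩)
  -- separation at level `F`
  have hO : ∀ V : Set (Curv2.bc k X K), IsOpen V → ∃ O, IsOpen O ∧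
      lvl F '' (V ∩ limComp T z) = O ∩ Curv2.bcFst k X F ⁻¹' T := by
    intro V hV
    choose O hO hvO hsub using fun v : ↥(V ∩ limComp T z) => exists_open_image hT hTc z hz F hV v.2.1 v.2.2
    refine ⟨⋃ v, O v, isOpen_iUnion hO, subset_antisymm ?_ ?_⟩
    · rintro _ ⟨v, hv, rfl⟩
      refine ⟨Set.mem_iUnion.2 ⟨⟨v, hv⟩, hvO ⟨v, hv⟩⟩, ?_⟩
      show Curv2.bcFst k X F (lvl F v) ∈ T
      rw [lvl_fst_apply]
      exact limComp_subset z hv.2
    · rintro d ⟨hd, hdT⟩
      obtain ⟨v, hv⟩ := Set.mem_iUnion.1 hd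
      exact hsub v ⟨hv, hdT⟩
  obtain ⟨O₁, hO₁, hO₁eq⟩ := hO U₀ hU₀
  obtain ⟨O₂, hO₂, hO₂eq⟩ := hO W₀ hW₀
  obtain ⟨d, hd, hd1, hd2⟩ := isPreconnected_connectedComponentIn (F := Curv2.bcFst k X F ⁻¹' T) (x := lvl F z)
    O₁ O₂ hO₁ hO₂
    (fun d hd => by
      obtain ⟨w, hw, rfl⟩ := exists_mem_limComp_lvl z hz hT hTc F hd
      exact (hcov hw).imp (fun h => (hO₁eq.subset ⟨w, ⟨h, hw⟩, rfl⟩).1) fun h => (hO₂eq.subset ⟨w, ⟨h, hw⟩, rfl⟩).1)
    ⟨lvl F a, Set.mem_iInter₂.1 haC F ⟨hfd, hn⟩, (hO₁eq.subset ⟨a, ⟨haU, haC⟩, rfl⟩).1⟩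
    ⟨lvl F b, Set.mem_iInter₂.1 hbC F ⟨hfd, hn⟩, (hO₂eq.subset ⟨b, ⟨hbW, hbC⟩, rfl⟩).1⟩
  have hdT := connectedComponentIn_subset _ _ hd
  obtain ⟨u, ⟨huU, huC⟩, rfl⟩ := hO₁eq.ge ⟨hd1, hdT⟩
  obtain ⟨w, ⟨hwW, hwC⟩, hwu⟩ := hO₂eq.ge ⟨hd2, hdT⟩
  obtain ⟨σ, hσ, rfl⟩ := exists_galAct_eq_over F u w hwu.symm
  exact hinv σ hσ (fun y hy => galAct_mem_limComp z hz σ huC hwC hy) u huC huU hwW

include hT hTc hz in
theorem subset_image_connectedComponent : T ⊆ Curv2.bcFst k X K '' connectedComponent z := by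
  intro x hx
  obtain ⟨F, -, hfd, hn⟩ := exists_level (k := k) (K := K) ⊥
  obtain ⟨d, hd, rfl⟩ := levelComp_surj hT hTc z hz F hx
  obtain ⟨w, hw, rfl⟩ := exists_mem_limComp_lvl z hz hT hTc F hd
  exact ⟨w, (isPreconnected_limComp hT hTc z hz).subset_connectedComponent (mem_limComp z hz) hw,
    (lvl_fst_apply F w).symm⟩

end

theorem image_connectedComponent_of_normal [Normal k K] (z : Curv2.bc k X K) :
    Curv2.bcFst k X K '' connectedComponent z = connectedComponent (Curv2.bcFst k X K z) :=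
  subset_antisymm ((Curv2.bcFst k X K).continuous.image_connectedComponent_subset z)
    (subset_image_connectedComponent isPreconnected_connectedComponent isClosed_connectedComponent z
      mem_connectedComponent)

theorem image_connectedComponent (K : Type u) [Field K] [Algebra k K] (x' : Curv2.bc k X K) :
    Curv2.bcFst k X K '' connectedComponent x' = connectedComponent (Curv2.bcFst k X K x') := by
  refine subset_antisymm ((Curv2.bcFst k X K).continuous.image_connectedComponent_subset x') ?_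
  let L := SeparableClosure k
  let f := X ↘ Spec (CommRingCat.of k)
  let M := AlgebraicClosure K
  let ψ : L →ₐ[k] M := IsAlgClosed.lift
  let : Algebra L M := ψ.toRingHom.toAlgebra
  have : IsScalarTower k L M := IsScalarTower.of_algebraMap_eq fun r => (ψ.commutes r).symm
  obtain ⟨w, rfl⟩ := (FBaseLib.bcMap f K M).surjective x'
  have e1 : ∀ y, Curv2.bcFst k X K (FBaseLib.bcMap f K M y) = Curv2.bcFst k X M y :=
    fun y => congr($(FBaseLib.bcMap_fst f K M).base y)
  have e2 : ∀ y, Curv2.bcFst k X L (FBaseLib.bcMap f L M y) = Curv2.bcFst k X M y :=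
    fun y => congr($(FBaseLib.bcMap_fst f L M).base y)
  let u : Curv2.bc k X L := FBaseLib.bcMap f L M w
  have hD := isConnected_bcMap_preimage L M (isConnected_connectedComponent (x := u))
  have hsub := (hD.image _ (FBaseLib.bcMap f K M).continuous.continuousOn).isPreconnected.subset_connectedComponent
    ⟨w, mem_connectedComponent, rfl⟩
  rw [e1, ← e2, ← image_connectedComponent_of_normal u]
  rintro _ ⟨d, hd, rfl⟩
  obtain ⟨y, rfl⟩ := (FBaseLib.bcMap f L M).surjective d
  exact ⟨_, hsub ⟨y, hd, rfl⟩, (e1 y).trans (e2 y).symm⟩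

theorem connectedComponent_invariant_iff (L : Type u) [Field L] [Algebra k L] [IsSepClosed L]
    [Algebra.IsAlgebraic k L] [Normal k L] (t : Curv2.bc k X L) :
    (∀ σ : L ≃ₐ[k] L, Curv2.galAct k X L σ '' connectedComponent t = connectedComponent t) ↔
      (Curv2.bcFst k X L ⁻¹' connectedComponent (Curv2.bcFst k X L t) = connectedComponent t ∧
        ∀ (K : Type u) [Field K] [Algebra k K],
          _root_.IsConnected (Curv2.bcFst k X K ⁻¹' connectedComponent (Curv2.bcFst k X L t))) := by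
  constructor
  · intro h
    have hpre : Curv2.bcFst k X L ⁻¹' connectedComponent (Curv2.bcFst k X L t) = connectedComponent t := by
      rw [← image_connectedComponent_of_normal t]
      refine subset_antisymm (fun y hy => ?_) (Set.subset_preimage_image _ _)
      obtain ⟨s, hs, hsy⟩ := hy
      obtain ⟨σ, rfl⟩ := exists_galAct_eq s y hsy
      exact (h σ).subset ⟨s, hs, rfl⟩
    exact ⟨hpre, fun K _ _ => isConnected_preimage_of_sepClosed L (hpre ▸ isConnected_connectedComponent) K⟩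
  · rintro ⟨hT, -⟩ σ
    rw [← hT]
    refine subset_antisymm (Set.image_subset_iff.2 fun y hy => ?_) fun y hy =>
      ⟨Curv2.galAct k X L σ.symm y, ?_, congr($(galAct_symm (X := X) σ).base y)⟩
    · show Curv2.bcFst k X L (Curv2.galAct k X L σ y) ∈ connectedComponent (Curv2.bcFst k X L t)
      rw [bcFst_galAct]; exact hy
    · show Curv2.bcFst k X L (Curv2.galAct k X L σ.symm y) ∈ connectedComponent (Curv2.bcFst k X L t)
      rw [bcFst_galAct]; exact hy

end Groth.Agent.GeomField
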