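import Groth.Agent.GeomField.Irreducible
import Mathlib.RingTheory.AlgebraicIndependent.TranscendenceBasis
import Mathlib.RingTheory.AlgebraicIndependent.RankAndCardinality
import Mathlib.RingTheory.TensorProduct.MvPolynomial
import Mathlib.AlgebraicGeometry.Morphisms.Integral

/-!
# Images of irreducible components under extension of the base field
-/

open CategoryTheory CategoryTheory.Limits AlgebraicGeometry TensorProduct

set_option backward.isDefEq.respectTransparency false
set_option backward.isDefEq.respectTransparency.types false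

namespace Groth.Agent.GeomField

universe u

attribute [local instance] Curv2.resAlgebra

/-- `L ⊗ k(ι)` is a domain. -/
theorem isDomain_tensor_fractionRing {k : Type u} [Field k] (L : Type u) [Field L] [Algebra k L] (ι : Type u) :
    IsDomain (FractionRing (MvPolynomial ι k) ⊗[k] L) := by
  let P := MvPolynomial ι k
  let B := FractionRing P
  let e : P ⊗[k] L ≃+* MvPolynomial ι L :=
    (Algebra.TensorProduct.comm k P L).toRingEquiv.trans (MvPolynomial.algebraTensorAlgEquiv k L).toRingEquiv
  have : IsDomain (P ⊗[k] L) := e.toMulEquiv.isDomain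
  let ψ : P ⊗[k] L →ₐ[k] B ⊗[k] L := Algebra.TensorProduct.map (IsScalarTower.toAlgHom k P B) (AlgHom.id k L)
  have hψ : Function.Injective ψ :=
    TensorProduct.map_injective_of_flat_flat (IsScalarTower.toAlgHom k P B).toLinearMap LinearMap.id
      (IsFractionRing.injective P B) Function.injective_id
  have : Nontrivial (B ⊗[k] L) := hψ.nontrivial
  have : NoZeroDivisors (B ⊗[k] L) := ⟨fun {z w} hzw => by
    obtain ⟨s, hs, a, ha⟩ := exists_tmul_mul_eq_map L (nonZeroDivisors P) z
    obtain ⟨t, ht, b, hb⟩ := exists_tmul_mul_eq_map L (nonZeroDivisors P) w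
    have h0 : a * b = 0 := hψ (by
      show ψ (a * b) = ψ 0
      rw [map_mul, map_zero, show ψ a = _ from ha.symm, show ψ b = _ from hb.symm, mul_mul_mul_comm, hzw, mul_zero])
    rcases eq_zero_or_eq_zero_of_mul_eq_zero h0 with h | h
    · left
      have h1 : ψ a = 0 := by rw [h, map_zero]
      rw [show ψ a = _ from ha.symm] at h1
      exact (isUnit_tmul_one L (nonZeroDivisors P) hs).mul_right_eq_zero.1 h1
    · right
      have h1 : ψ b = 0 := by rw [h, map_zero]
      rw [show ψ b = _ from hb.symm] at h1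
      exact (isUnit_tmul_one L (nonZeroDivisors P) ht).mul_right_eq_zero.1 h1⟩
  exact NoZeroDivisors.to_isDomain _

variable {k : Type u} [Field k] {X : Scheme.{u}} [X.Over (Spec (CommRingCat.of k))]

theorem image_component (K : Type u) [Field K] [Algebra k K] {T : Set (Curv2.bc k X K)}
    (hT : T ∈ irreducibleComponents (Curv2.bc k X K : Type u)) :
    Curv2.bcFst k X K '' T ∈ irreducibleComponents (X : Type u) := by
  obtain ⟨η, hη, hmax⟩ := maximal_of_component hT
  let p := Curv2.bcFst k X K
  let ξ := p η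
  have hξ : ∀ x, x ⤳ ξ → x = ξ := bcFst_maximal K hmax
  have hZ : closure {ξ} ∈ irreducibleComponents (X : Type u) := by
    obtain ⟨ξ', hξ', -, hc⟩ := exists_maximal_component ξ
    rwa [hξ ξ' hξ'] at hc
  convert hZ
  refine subset_antisymm ?_ fun x hx => ?_
  · rintro _ ⟨t, ht, rfl⟩
    exact ((hη.specializes ht).map p.continuous).mem_closure
  obtain ⟨s, hs⟩ := exists_isTranscendenceBasis k K
  let K0 := IntermediateField.adjoin k (Set.range (Subtype.val : s → K))
  have : Algebra.IsAlgebraic K0 K := hs.isAlgebraic_field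
  let f := X ↘ Spec (CommRingCat.of k)
  let q : Curv2.bc k X K ⟶ Curv2.bc k X K0 := FBaseLib.bcMap f K0 K
  let p0 := Curv2.bcFst k X K0
  have hqp : ∀ z, p0 (q z) = p z := fun z => congr($(FBaseLib.bcMap_fst f K0 K).base z)
  have hclosed : IsClosedMap q := by
    have h1 : IsIntegralHom (Spec.map (CommRingCat.ofHom (algebraMap K0 K))) :=
      IsIntegralHom.SpecMap_iff.2 (algebraMap_isIntegral_iff.2 inferInstance)
    have : IsIntegralHom (FBase.bcπ (FBase.bcStr f K0) K) := MorphismProperty.pullback_fst _ _ h1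
    have : IsIntegralHom (FBaseLib.bcMap f K0 K) := by unfold FBaseLib.bcMap; infer_instance
    exact (FBaseLib.bcMap f K0 K).isClosedMap
  have hgen : GeneralizingMap q := Flat.generalizingMap (FBaseLib.bcMap f K0 K)
  have hirr : IsIrreducible (p0 ⁻¹' {ξ}) := by
    rw [isIrreducible_fibre_iff]
    let e : X.residueField ξ ⊗[k] K0 ≃ₐ[k] FractionRing (MvPolynomial s k) ⊗[k] X.residueField ξ :=
      (Algebra.TensorProduct.comm k _ _).trans (Algebra.TensorProduct.congr hs.1.aevalEquivField.symm AlgEquiv.refl)
    have := isDomain_tensor_fractionRing (k := k) (X.residueField ξ) s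
    have : IsDomain (X.residueField ξ ⊗[k] K0) := e.toMulEquiv.isDomain
    infer_instance
  have hpre : p0 ⁻¹' closure {ξ} ⊆ q '' T := by
    have h1 : IsClosed (q '' T) := hclosed T (isClosed_of_mem_irreducibleComponents T hT)
    have h2 : ∀ y, y ⤳ q η → y = q η := fun y hy => by
      obtain ⟨y', hy', rfl⟩ := hgen hy
      rw [hmax y' hy']
    have hg := hirr.isGenericPoint_genericPoint_closure
    have h3 : hirr.genericPoint = q η := h2 _ (hg.specializes (subset_closure (hqp η)))
    intro y hy
    obtain ⟨y', hy'y, hy'⟩ := generalizingMap_bcFst (k := k) K0 ((specializes_iff_mem_closure.2 hy) : ξ ⤳ p0 y)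
    have h4 : q η ⤳ y' := h3 ▸ hg.specializes (subset_closure hy')
    exact (h4.trans hy'y).mem_closed h1 ⟨η, hη.mem, rfl⟩
  obtain ⟨y, rfl⟩ := surjective_bcFst (k := k) (X := X) K0 x
  obtain ⟨t, ht, rfl⟩ := hpre hx
  exact ⟨t, ht, (hqp t).symm⟩

theorem exists_component_over (K : Type u) [Field K] [Algebra k K] {Z : Set X}
    (hZ : Z ∈ irreducibleComponents (X : Type u)) :
    ∃ T ∈ irreducibleComponents (Curv2.bc k X K : Type u), Curv2.bcFst k X K '' T = Z := by
  obtain ⟨ξ, hξ, hmax⟩ := maximal_of_component hZ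
  obtain ⟨z, hz⟩ := surjective_bcFst (k := k) (X := X) K ξ
  obtain ⟨η, hη, -, hηc⟩ := exists_maximal_component z
  have h1 : Curv2.bcFst k X K η = ξ := hmax _ (hz ▸ hη.map (Curv2.bcFst k X K).continuous)
  refine ⟨_, hηc, ?_⟩
  obtain ⟨g, hg, -⟩ := maximal_of_component (image_component K hηc)
  have h2 : ξ ∈ Curv2.bcFst k X K '' closure {η} := ⟨η, subset_closure rfl, h1⟩
  have h3 : g = ξ := hmax g (hg.specializes h2)
  subst h3
  exact hg.symm.trans hξ

end Groth.Agent.GeomField
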