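import Groth.Agent.GeomField.Algebra
import Mathlib.FieldTheory.PrimitiveElement
import Mathlib.RingTheory.Spectrum.Prime.Topology

/-!
# Tensor products with finite separable extensions
-/

open TensorProduct Polynomial

namespace Groth.Agent.GeomField

universe u

variable {k : Type u} [Field k] (L E : Type u) [Field L] [Algebra k L] [Field E] [Algebra k E]

theorem irreducible_map_minpoly (α : L) (hα : IsSeparable k α)
    (h : ∀ a : E, IsSeparable k a → a ∈ Set.range (algebraMap k E)) :
    Irreducible ((minpoly k α).map (algebraMap k E)) := by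
  have hi := hα.isIntegral
  have hm := (minpoly.monic hi).map (algebraMap k E)
  refine (hm.irreducible_iff_natDegree).2 ⟨fun h1 => ?_, fun g₁ g₂ hg₁ hg₂ hg => ?_⟩
  · have := congrArg natDegree h1
    rw [natDegree_map, natDegree_one] at this
    exact (minpoly.natDegree_pos hi).ne' this
  let Ω := AlgebraicClosure E
  have key : ∀ g : E[X], g.Monic → g ∣ (minpoly k α).map (algebraMap k E) → g ∈ lifts (algebraMap k E) := by
    intro g hg hdvd
    let S := separableClosure k Ω
    have hroots : ∀ r ∈ (g.map (algebraMap E Ω)).roots, r ∈ S := by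
      intro r hr
      rw [mem_separableClosure_iff]
      have h0 : (minpoly k α).aeval r = 0 := by
        have h1 := (Polynomial.map_dvd (algebraMap E Ω) hdvd)
        rw [Polynomial.map_map, ← IsScalarTower.algebraMap_eq] at h1
        have := Polynomial.isRoot_of_mem_roots hr
        exact (aeval_def _ _).trans ((eval₂_eq_eval_map _).trans (this.dvd h1))
      exact hα.of_dvd (minpoly.dvd k r h0)
    have hsplit : (g.map (algebraMap E Ω)).Splits := IsAlgClosed.splits _
    have hco : ∀ n, algebraMap E Ω (g.coeff n) ∈ S := by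
      intro n
      rw [← coeff_map, hsplit.eq_prod_roots_of_monic (hg.map _)]
      have hl : ((g.map (algebraMap E Ω)).roots.map fun a => X - C a).prod ∈ lifts (S.val.toRingHom) := by
        refine multiset_prod_mem _ fun p hp => ?_
        obtain ⟨a, ha, rfl⟩ := Multiset.mem_map.1 hp
        exact ⟨X - C (⟨a, hroots a ha⟩ : S), by simp⟩
      obtain ⟨q, hq⟩ := hl
      rw [← hq, coe_mapRingHom, coeff_map]
      exact (q.coeff n).2
    rw [lifts_iff_coeff_lifts]
    intro n
    refine h _ ?_
    have := mem_separableClosure_iff.1 (hco n)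
    rwa [IsSeparable, minpoly.algebraMap_eq (algebraMap E Ω).injective] at this
  obtain ⟨a, ha, hda, hma⟩ := lifts_and_degree_eq_and_monic (key g₁ hg₁ ⟨g₂, hg.symm⟩) hg₁
  obtain ⟨b, hb, hdb, hmb⟩ := lifts_and_degree_eq_and_monic (key g₂ hg₂ ⟨g₁, by rw [← hg, mul_comm]⟩) hg₂
  have hab : a * b = minpoly k α := Polynomial.map_injective _ (algebraMap k E).injective
    (by rw [Polynomial.map_mul, ha, hb, hg])
  rcases ((minpoly.irreducible hi).isUnit_or_isUnit hab.symm) with hu | hu
  · left; rw [← natDegree_eq_of_degree_eq hda]; exact natDegree_eq_zero_of_isUnit hu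
  · right; rw [← natDegree_eq_of_degree_eq hdb]; exact natDegree_eq_zero_of_isUnit hu

theorem isDomain_tensor_of_separable [FiniteDimensional k L] [Algebra.IsSeparable k L]
    (h : ∀ a : E, IsSeparable k a → a ∈ Set.range (algebraMap k E)) : IsDomain (E ⊗[k] L) := by
  obtain ⟨α, hα⟩ := Field.exists_primitive_element k L
  let Ω := AlgebraicClosure E
  let ψ : L →ₐ[k] Ω := IsAlgClosed.lift
  let Φ : E ⊗[k] L →ₐ[E] Ω :=
    Algebra.TensorProduct.lift (Algebra.ofId E Ω) ψ fun _ _ => Commute.all _ _
  have hsep := Algebra.IsSeparable.isSeparable k α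
  have hirr := irreducible_map_minpoly L E α hsep h
  have hmin : minpoly E (ψ α) = (minpoly k α).map (algebraMap k E) :=
    (minpoly.eq_of_irreducible_of_monic hirr
      (by rw [aeval_map_algebraMap, aeval_algHom_apply, minpoly.aeval, map_zero])
      ((minpoly.monic hsep.isIntegral).map _)).symm
  have hd : Module.finrank E (IntermediateField.adjoin E {ψ α}) = Module.finrank k L := by
    rw [IntermediateField.adjoin.finrank (Algebra.IsIntegral.isIntegral _), hmin, natDegree_map]
    exact ((Field.primitive_element_iff_minpoly_natDegree_eq k α).1 hα)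
  have hinj : Function.Injective Φ.toLinearMap := by
    have hle : (IntermediateField.adjoin E {ψ α}).toSubalgebra ≤ Φ.range := by
      rw [IntermediateField.adjoin_simple_toSubalgebra_of_isAlgebraic (Algebra.IsAlgebraic.isAlgebraic _)]
      exact Algebra.adjoin_le (Set.singleton_subset_iff.2 ⟨1 ⊗ₜ[k] α, by simp [Φ]⟩)
    rw [← LinearMap.ker_eq_bot, ← Submodule.finrank_eq_zero]
    have h1 := Φ.toLinearMap.finrank_range_add_finrank_ker
    have h2 : Module.finrank E (IntermediateField.adjoin E {ψ α}) ≤ Module.finrank E Φ.toLinearMap.range :=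
      Submodule.finrank_mono (s := (IntermediateField.adjoin E {ψ α}).toSubalgebra.toSubmodule)
        (t := Φ.toLinearMap.range) hle
    rw [Module.finrank_baseChange] at h1
    omega
  exact Function.Injective.isDomain Φ hinj

/-- If `a ∈ E` is separable over `k` and `Spec (E ⊗ M)` is irreducible for a field `M` containing a copy
of `k(a)`, then `a ∈ k`. -/
theorem mem_range_of_irreducibleSpace (F : Type u) [Field F] [Algebra k F] [FiniteDimensional k F]
    [Algebra.IsSeparable k F] (f : F →ₐ[k] E) (M : Type u) [Field M] [Algebra k M] (g : F →ₐ[k] M)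
    (h : IrreducibleSpace (PrimeSpectrum (E ⊗[k] M))) : Module.finrank k F = 1 := by
  let j : F ⊗[k] F →ₐ[k] E ⊗[k] M := Algebra.TensorProduct.map f g
  have hj : Function.Injective j :=
    TensorProduct.map_injective_of_flat_flat f.toLinearMap g.toLinearMap f.injective g.injective
  have : IsReduced (F ⊗[k] F) := GrpSchLib.isReduced_tensor_of_isSeparable k F F
  rw [PrimeSpectrum.irreducibleSpace_iff_isPrime_nilradical] at h
  have hn : (nilradical (E ⊗[k] M)).comap j.toRingHom = ⊥ := by
    refine le_antisymm (fun x hx => ?_) bot_le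
    obtain ⟨n, hn⟩ := hx
    exact IsReduced.eq_zero x ⟨n, hj (by rw [map_pow, map_zero]; exact hn)⟩
  have hp : (⊥ : Ideal (F ⊗[k] F)).IsPrime := hn ▸ h.comap j.toRingHom
  have : IsDomain (F ⊗[k] F) := IsDomain.of_bot_isPrime _
  let m : F ⊗[k] F →ₐ[k] F := Algebra.TensorProduct.lift (AlgHom.id k F) (AlgHom.id k F) fun _ _ => Commute.all _ _
  have hF : IsField (F ⊗[k] F) := isField_of_isIntegral_of_isField' (R := k) (Field.toIsField k)
  let := hF.toField
  have h1 := LinearMap.finrank_le_finrank_of_injective (f := m.toLinearMap) m.toRingHom.injective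
  rw [Module.finrank_tensorProduct] at h1
  have : 0 < Module.finrank k F := Module.finrank_pos
  nlinarith

theorem mem_range_of_irreducibleSpace_tensor {a : E} (ha : IsSeparable k a) (M : Type u) [Field M]
    [Algebra k M] (g : IntermediateField.adjoin k {a} →ₐ[k] M)
    (h : IrreducibleSpace (PrimeSpectrum (E ⊗[k] M))) : a ∈ Set.range (algebraMap k E) := by
  have := IntermediateField.adjoin.finiteDimensional ha.isIntegral
  have := (IntermediateField.isSeparable_adjoin_simple_iff_isSeparable k E).2 ha
  have h1 := mem_range_of_irreducibleSpace E (IntermediateField.adjoin k {a})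
    (IntermediateField.adjoin k {a}).val M g h
  rw [IntermediateField.finrank_eq_one_iff] at h1
  exact IntermediateField.mem_bot.1 (h1 ▸ IntermediateField.mem_adjoin_simple_self k a)

end Groth.Agent.GeomField
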