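import Groth.Agent.GeomField.Reduced
import Mathlib.Algebra.CharP.Frobenius

/-!
# Geometric reducedness via the Frobenius of the base field
-/

open CategoryTheory CategoryTheory.Limits AlgebraicGeometry TensorProduct

set_option backward.isDefEq.respectTransparency false
set_option backward.isDefEq.respectTransparency.types false

namespace Groth.Agent.GeomField

universe u

attribute [local instance] Curv2.stalkAlgebra

/-- `k` as an algebra over itself via the Frobenius. -/
def Twist (k : Type u) [Field k] (_p : ℕ) : Type u := k

instance (k : Type u) [Field k] (p : ℕ) : Field (Twist k p) := inferInstanceAs (Field k)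

noncomputable instance (k : Type u) [Field k] (p : ℕ) [ExpChar k p] : Algebra k (Twist k p) :=
  (frobenius k p).toAlgebra

/-- The element of `k` underlying an element of the twist. -/
def untw {k : Type u} [Field k] {p : ℕ} (c : Twist k p) : k := c

theorem twist_isIntegral (k : Type u) [Field k] (p : ℕ) [Fact p.Prime] [CharP k p] :
    Algebra.IsIntegral k (Twist k p) := by
  refine ⟨fun x => IsIntegral.of_pow (Fact.out : p.Prime).pos ?_⟩
  rw [show x ^ p = algebraMap k (Twist k p) (untw x) from rfl]
  exact isIntegral_algebraMap

variable {k : Type u} [Field k] (p : ℕ) [Fact p.Prime] [CharP k p] (A : Type u) [CommRing A] [Algebra k A]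

theorem isReduced_tensor_of_twist [h : _root_.IsReduced (A ⊗[k] Twist k p)] (K : Type u) [Field K] [Algebra k K] :
    _root_.IsReduced (A ⊗[k] K) := by
  rcases subsingleton_or_nontrivial A with hA | hA
  · have : Subsingleton (A ⊗[k] K) := Module.subsingleton A _
    infer_instance
  have : CharP A p := charP_of_injective_algebraMap (algebraMap k A).injective p
  have hinj : Function.Injective (Algebra.TensorProduct.includeLeft : A →ₐ[k] A ⊗[k] Twist k p) :=
    Algebra.TensorProduct.includeLeft_injective (algebraMap k (Twist k p)).injective
  have : _root_.IsReduced A := isReduced_of_injective _ hinj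
  have : CharP (A ⊗[k] Twist k p) p :=
    charP_of_injective_ringHom (f := (Algebra.TensorProduct.includeLeft : A →ₐ[k] A ⊗[k] Twist k p).toRingHom) hinj p
  have : CharP K p := charP_of_injective_algebraMap (algebraMap k K).injective p
  let b := Module.Free.chooseBasis k K
  let ι := Module.Free.ChooseBasisIndex k K
  let β : K →ₗ[k] (ι →₀ Twist k p) :=
    { toFun := fun c => (b.repr (c ^ p)).mapRange (fun r : k => (r : Twist k p)) rfl
      map_add' := fun x y => by
        ext i
        show b.repr ((x + y) ^ p) i = b.repr (x ^ p) i + b.repr (y ^ p) i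
        rw [add_pow_char, map_add, Finsupp.add_apply]
      map_smul' := fun r x => by
        ext i
        show b.repr ((r • x) ^ p) i = frobenius k p r * b.repr (x ^ p) i
        rw [smul_pow, map_smul, Finsupp.smul_apply, smul_eq_mul, frobenius_def] }
  have hβ : Function.Injective β := by
    rw [← LinearMap.ker_eq_bot, eq_bot_iff]
    intro c hc
    have h1 : b.repr (c ^ p) = 0 := Finsupp.ext fun i => congr($hc i)
    exact eq_zero_of_pow_eq_zero ((LinearEquiv.map_eq_zero_iff _).1 h1)
  let Φ := TensorProduct.finsuppRight k k A (Twist k p) ι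
  let Θ : A ⊗[k] K →ₗ[k] (ι →₀ A ⊗[k] Twist k p) := Φ.toLinearMap ∘ₗ β.lTensor A
  have hΘ : Function.Injective Θ :=
    Φ.injective.comp (Module.Flat.lTensor_preserves_injective_linearMap β hβ)
  -- evaluation `a ⊗ c ↦ c • a ^ p`
  let φ : A ⊗[k] Twist k p →+ A := TensorProduct.liftAddHom
    { toFun := fun a =>
        { toFun := fun c => algebraMap k A (untw c) * a ^ p
          map_zero' := by show algebraMap k A 0 * a ^ p = 0; rw [map_zero, zero_mul]
          map_add' := fun x y => by
            show algebraMap k A (untw x + untw y) * a ^ p = _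
            rw [map_add, add_mul] }
      map_zero' := by
        ext c
        show algebraMap k A (untw c) * (0 : A) ^ p = 0
        rw [zero_pow (Fact.out : p.Prime).ne_zero, mul_zero]
      map_add' := fun x y => by
        ext c
        show algebraMap k A (untw c) * (x + y) ^ p = algebraMap k A (untw c) * x ^ p + algebraMap k A (untw c) * y ^ p
        rw [add_pow_char, mul_add] }
    (fun r a c => by
      show algebraMap k A (untw c) * (r • a) ^ p = algebraMap k A (frobenius k p r * (untw c)) * a ^ p
      rw [smul_pow, Algebra.smul_def, map_mul, frobenius_def]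
      ring)
  have hpow : ∀ y : A ⊗[k] Twist k p, y ^ p = φ y ⊗ₜ[k] (1 : Twist k p) := by
    intro y
    induction y using TensorProduct.induction_on with
    | zero => rw [zero_pow (Fact.out : p.Prime).ne_zero, map_zero, TensorProduct.zero_tmul]
    | tmul a c =>
      rw [Algebra.TensorProduct.tmul_pow,
        show c ^ p = (untw c) • (1 : Twist k p) from
          (show c ^ p = algebraMap k (Twist k p) (untw c) from rfl).trans (Algebra.algebraMap_eq_smul_one _),
        TensorProduct.tmul_smul, TensorProduct.smul_tmul', Algebra.smul_def]
      rfl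
    | add x y hx hy => rw [add_pow_char, hx, hy, map_add, TensorProduct.add_tmul]
  refine (isReduced_iff_pow_one_lt p (Fact.out : p.Prime).one_lt).2 fun x hx => hΘ ?_
  rw [map_zero]
  ext i
  rw [Finsupp.zero_apply]
  refine IsReduced.eq_zero _ ⟨p, ?_⟩
  have key : φ (Θ x i) = (Algebra.TensorProduct.basis A b).repr (x ^ p) i := by
    clear hx
    induction x using TensorProduct.induction_on with
    | zero => simp [zero_pow (Fact.out : p.Prime).ne_zero]
    | tmul a c =>
      rw [Algebra.TensorProduct.tmul_pow, Algebra.TensorProduct.basis_repr_tmul]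
      simp only [Θ, Φ, LinearMap.comp_apply, LinearEquiv.coe_coe, LinearMap.lTensor_tmul,
        TensorProduct.finsuppRight_apply_tmul_apply, Finsupp.smul_apply, Finsupp.mapRange_apply, smul_eq_mul]
      exact mul_comm (algebraMap k A (b.repr (c ^ p) i)) (a ^ p)
    | add y z hy hz =>
      have : CharP (A ⊗[k] K) p := charP_of_injective_ringHom
        (f := (Algebra.TensorProduct.includeLeft : A →ₐ[k] A ⊗[k] K).toRingHom)
        (Algebra.TensorProduct.includeLeft_injective (algebraMap k K).injective) p
      rw [add_pow_char, map_add, map_add, Finsupp.add_apply, Finsupp.add_apply, map_add, hy, hz]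
  rw [hpow, key, hx, map_zero, Finsupp.zero_apply, TensorProduct.zero_tmul]

theorem geometricallyReduced_of_twist {X : Scheme.{u}} [X.Over (Spec (CommRingCat.of k))]
    [IsReduced (Curv2.bc k X (Twist k p))] : GeometricallyReduced (X ↘ Spec (CommRingCat.of k)) := by
  rw [geometricallyReduced_iff]
  intro x
  obtain ⟨c, P, rfl⟩ := exists_chart (k := k) x
  obtain ⟨_, _, _⟩ := c.exists_stalk_algebra P
  rw [isGeomReducedAt_iff, gr_iff]
  have := twist_isIntegral k p
  have : _root_.IsReduced (X.presheaf.stalk (c.emb P) ⊗[k] Twist k p) := by
    refine isReduced_tensor_of_atPrime (PrimeSpectrum.asIdeal (R := c.R) P) _ _ fun Q hQ hQP => ?_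
    rw [← c.isReduced_stalk_bcEmb_iff (Twist k p) ⟨Q, hQ⟩]
    infer_instance
  exact isReduced_tensor_of_twist p _ _

end Groth.Agent.GeomField
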