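import Groth.Agent.GeomField.Chart
import Mathlib.RingTheory.Adjoin.FG
import Mathlib.RingTheory.Spectrum.Prime.Topology

/-!
# Descending quasi-compact opens of `X ⊗ A` to finitely generated subalgebras
-/

open CategoryTheory CategoryTheory.Limits AlgebraicGeometry TensorProduct

set_option backward.isDefEq.respectTransparency false
set_option backward.isDefEq.respectTransparency.types false

namespace Groth.Agent.GeomField

universe u

variable {k : Type u} [Field k] {X : Scheme.{u}} [X.Over (Spec (CommRingCat.of k))]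

/-- `X ⊗_k A` for an algebra `A`. -/
noncomputable abbrev bcA (k : Type u) [Field k] (X : Scheme.{u}) [X.Over (Spec (CommRingCat.of k))]
    (A : Type u) [CommRing A] [Algebra k A] : Scheme.{u} :=
  pullback (X ↘ Spec (CommRingCat.of k)) (Spec.map (CommRingCat.ofHom (algebraMap k A)))

namespace Chart

variable (c : Chart k X) (A : Type u) [CommRing A] [Algebra k A]

/-- The chart of `X ⊗_k A`. -/
noncomputable def algEmb : Spec (CommRingCat.of (c.R ⊗[k] A)) ⟶ bcA k X A :=
  (pullbackSpecIso k c.R A).inv ≫ (pullback.congrHom c.over_eq rfl).inv ≫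
    (pullbackRightPullbackFstIso (X ↘ Spec (CommRingCat.of k)) (Spec.map (CommRingCat.ofHom (algebraMap k A)))
      c.emb).inv ≫ pullback.snd c.emb (pullback.fst _ _)

instance : IsOpenImmersion (c.algEmb A) := by
  unfold algEmb; infer_instance

theorem algEmb_fst : c.algEmb A ≫ pullback.fst _ _ =
    Spec.map (CommRingCat.ofHom (algebraMap c.R (c.R ⊗[k] A))) ≫ c.emb := by
  rw [algEmb, Category.assoc, Category.assoc, Category.assoc, ← pullback.condition,
    pullbackRightPullbackFstIso_inv_fst_assoc, pullback.congrHom_inv, pullback.lift_fst_assoc,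
    Category.comp_id, pullbackSpecIso_inv_fst'_assoc]

theorem algEmb_snd : c.algEmb A ≫ pullback.snd _ _ =
    Spec.map (CommRingCat.ofHom
      (Algebra.TensorProduct.includeRight : A →ₐ[k] c.R ⊗[k] A).toRingHom) := by
  rw [algEmb, Category.assoc, Category.assoc, Category.assoc,
    pullbackRightPullbackFstIso_inv_snd_snd, pullback.congrHom_inv, pullback.lift_snd, Category.comp_id,
    pullbackSpecIso_inv_snd]
  rfl

theorem range_algEmb : Set.range (c.algEmb A) =
    (pullback.fst _ _ : bcA k X A ⟶ X) ⁻¹' Set.range c.emb := by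
  rw [← Scheme.Pullback.range_snd]
  let φ := (pullbackSpecIso k c.R A).inv ≫ (pullback.congrHom c.over_eq rfl).inv ≫
    (pullbackRightPullbackFstIso (X ↘ Spec (CommRingCat.of k)) (Spec.map (CommRingCat.ofHom (algebraMap k A)))
      c.emb).inv
  have h : c.algEmb A = φ ≫ pullback.snd c.emb (pullback.fst _ _) := by
    simp only [φ, algEmb, Category.assoc]
  have : IsIso φ := inferInstance
  ext a
  constructor
  · rintro ⟨b, rfl⟩
    exact ⟨φ b, by rw [h]; rfl⟩
  · rintro ⟨b, rfl⟩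
    obtain ⟨b', rfl⟩ := φ.homeomorph.surjective b
    exact ⟨b', by rw [h]; rfl⟩

theorem algEmb_comp (B : Subalgebra k A) (π : bcA k X A ⟶ bcA k X B)
    (h1 : π ≫ pullback.fst _ _ = pullback.fst _ _)
    (h2 : π ≫ pullback.snd _ _ = pullback.snd _ _ ≫ Spec.map (CommRingCat.ofHom B.val.toRingHom)) :
    c.algEmb A ≫ π =
      Spec.map (CommRingCat.ofHom (Algebra.TensorProduct.map (AlgHom.id k c.R) B.val).toRingHom) ≫
        c.algEmb B := by
  apply pullback.hom_ext
  · rw [Category.assoc, Category.assoc, h1, algEmb_fst, algEmb_fst, ← Spec.map_comp_assoc]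
    congr 2
  · rw [Category.assoc, Category.assoc, h2, ← Category.assoc, algEmb_snd, algEmb_snd,
      ← Spec.map_comp, ← Spec.map_comp]
    congr 1

end Chart

theorem exists_fg_lift {R A : Type u} [CommRing R] [Algebra k R] [CommRing A] [Algebra k A]
    (z : R ⊗[k] A) :
    ∃ B : Subalgebra k A, B.FG ∧ ∀ B' : Subalgebra k A, B ≤ B' →
      ∃ y : R ⊗[k] B', Algebra.TensorProduct.map (AlgHom.id k R) B'.val y = z := by
  induction z using TensorProduct.induction_on with
  | zero => exact ⟨⊥, Subalgebra.fg_bot, fun B' _ => ⟨0, map_zero _⟩⟩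
  | tmul r a =>
    exact ⟨Algebra.adjoin k {a}, ⟨{a}, by simp⟩, fun B' hB' =>
      ⟨r ⊗ₜ[k] ⟨a, hB' (Algebra.subset_adjoin rfl)⟩, by simp⟩⟩
  | add z w hz hw =>
    obtain ⟨B, hB, hz⟩ := hz
    obtain ⟨C, hC, hw⟩ := hw
    refine ⟨B ⊔ C, hB.sup hC, fun B' hB' => ?_⟩
    obtain ⟨y, rfl⟩ := hz B' (le_sup_left.trans hB')
    obtain ⟨y', rfl⟩ := hw B' (le_sup_right.trans hB')
    exact ⟨y + y', map_add _ _ _⟩

theorem exists_descend_qcOpen (A : Type u) [CommRing A] [Algebra k A] (V : Set (bcA k X A))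
    (hV : IsOpen V) (hVc : IsCompact V) :
    ∃ (B : Subalgebra k A), B.FG ∧ ∃ V' : Set (bcA k X B), IsOpen V' ∧ IsCompact V' ∧
      ∀ π : bcA k X A ⟶ bcA k X B, π ≫ pullback.fst _ _ = pullback.fst _ _ →
        π ≫ pullback.snd _ _ = pullback.snd _ _ ≫ Spec.map (CommRingCat.ofHom B.val.toRingHom) →
          π ⁻¹' V' = V := by
  classical
  let p : bcA k X A ⟶ X := pullback.fst _ _
  have hloc : ∀ v : V, ∃ (c : Chart k X) (g : c.R ⊗[k] A),
      (v : bcA k X A) ∈ c.algEmb A '' (PrimeSpectrum.basicOpen g : Set (PrimeSpectrum (c.R ⊗[k] A))) ∧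
        c.algEmb A '' (PrimeSpectrum.basicOpen g : Set (PrimeSpectrum (c.R ⊗[k] A))) ⊆ V := by
    intro v
    obtain ⟨c, P, hP⟩ := exists_chart (k := k) (p v)
    obtain ⟨Q, hQ⟩ : (v : bcA k X A) ∈ Set.range (c.algEmb A) := by
      rw [c.range_algEmb]
      exact ⟨P, hP⟩
    obtain ⟨_, ⟨g, rfl⟩, hQg, hgV⟩ := PrimeSpectrum.isTopologicalBasis_basic_opens.exists_subset_of_mem_open
      (u := c.algEmb A ⁻¹' V) (show Q ∈ c.algEmb A ⁻¹' V by rw [Set.mem_preimage, hQ]; exact v.2)
      (hV.preimage (c.algEmb A).continuous)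
    exact ⟨c, g, ⟨Q, hQg, hQ⟩, Set.image_subset_iff.2 hgV⟩
  choose c g hmem hsub using hloc
  obtain ⟨s, hs⟩ := hVc.elim_finite_subcover
    (fun v : V => (c v).algEmb A '' (PrimeSpectrum.basicOpen (g v) : Set (PrimeSpectrum ((c v).R ⊗[k] A))))
    (fun v => ((c v).algEmb A).isOpenEmbedding.isOpenMap _ (PrimeSpectrum.basicOpen _).2)
    (fun v hv => Set.mem_iUnion.2 ⟨⟨v, hv⟩, hmem ⟨v, hv⟩⟩)
  choose B hBfg hlift using fun v : V => exists_fg_lift (g v)
  let B₀ := s.sup B
  have hB₀ : B₀.FG := Finset.sup_induction Subalgebra.fg_bot (fun _ ha _ hb => ha.sup hb) fun v _ => hBfg v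
  have hy : ∀ v : s, ∃ y : (c v.1).R ⊗[k] B₀,
      Algebra.TensorProduct.map (AlgHom.id k (c v.1).R) B₀.val y = g v.1 :=
    fun v => hlift v.1 B₀ (Finset.le_sup v.2)
  choose y hy using hy
  refine ⟨B₀, hB₀, ⋃ v : s, (c v.1).algEmb B₀ ''
      (PrimeSpectrum.basicOpen (y v) : Set (PrimeSpectrum ((c v.1).R ⊗[k] B₀))),
    isOpen_iUnion fun v => ((c v.1).algEmb B₀).isOpenEmbedding.isOpenMap _ (PrimeSpectrum.basicOpen _).2,
    isCompact_iUnion fun v => (PrimeSpectrum.isCompact_basicOpen _).image ((c v.1).algEmb B₀).continuous,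
    fun π h1 h2 => ?_⟩
  ext w
  constructor
  · intro hw
    obtain ⟨v, q, hq, hqw⟩ := Set.mem_iUnion.1 hw
    obtain ⟨Q, rfl⟩ : w ∈ Set.range ((c v.1).algEmb A) := by
      rw [(c v.1).range_algEmb]
      have h3 : p w = (pullback.fst _ _ : bcA k X B₀ ⟶ X) ((c v.1).algEmb B₀ q) := by
        rw [hqw]; exact (congr($(h1).base w)).symm
      show p w ∈ Set.range (c v.1).emb
      rw [h3]
      exact ⟨_, (congr($((c v.1).algEmb_fst B₀).base q)).symm⟩
    refine hsub v.1 ⟨Q, ?_, rfl⟩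
    have h4 : π ((c v.1).algEmb A Q) = (c v.1).algEmb B₀ (PrimeSpectrum.comap
        (Algebra.TensorProduct.map (AlgHom.id k (c v.1).R) B₀.val).toRingHom Q) :=
      congr($((c v.1).algEmb_comp A B₀ π h1 h2).base Q)
    rw [h4] at hqw
    have h5 := ((c v.1).algEmb B₀).isOpenEmbedding.injective hqw
    rw [h5] at hq
    rw [← hy v]
    exact hq
  · intro hw
    obtain ⟨v, hv, Q, hQ, rfl⟩ := Set.mem_iUnion₂.1 (hs hw)
    refine Set.mem_iUnion.2 ⟨⟨v, hv⟩, PrimeSpectrum.comap
      (Algebra.TensorProduct.map (AlgHom.id k (c v).R) B₀.val).toRingHom Q, ?_, ?_⟩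
    · rw [← hy ⟨v, hv⟩] at hQ
      exact hQ
    · exact (congr($((c v).algEmb_comp A B₀ π h1 h2).base Q)).symm

end Groth.Agent.GeomField
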